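import Mathlib
import Cfsg.Agent.Lib.TwoGroups.StrongEmbedding

/-!
# Groups in which the centraliser of every involution is abelian

Owner: helper10. If the centraliser `A` of an involution is abelian and not normal, all involutions
are conjugate, and every coset `g A` outside `N(A)` contains exactly one involution.
-/

set_option autoImplicit false

namespace CfsgLib.PLocal.CAGroup

open Subgroup

variable {G : Type*} [Group G]

/-- The centraliser of every involution is abelian. -/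
def AbInv (G : Type*) [Group G] : Prop :=
  ∀ t : G, orderOf t = 2 → IsMulCommutative ↥(centralizer ({t} : Set G))

theorem mem_cent {t x : G} : x ∈ centralizer ({t} : Set G) ↔ x * t = t * x :=
  mem_centralizer_singleton_iff

theorem AbInv.comm (hA : AbInv G) {t : G} (ht : orderOf t = 2) {x y : G}
    (hx : x ∈ centralizer ({t} : Set G)) (hy : y ∈ centralizer ({t} : Set G)) : x * y = y * x :=
  congrArg Subtype.val ((hA t ht).is_comm.comm ⟨x, hx⟩ ⟨y, hy⟩)

theorem inv_eq_self {t : G} (ht : orderOf t = 2) : t⁻¹ = t :=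
  inv_eq_of_mul_eq_one_left (by rw [← pow_two, ← ht, pow_orderOf_eq_one])

theorem mul_self_eq_one {t : G} (ht : orderOf t = 2) : t * t = 1 := by
  rw [← pow_two, ← ht, pow_orderOf_eq_one]

/-- Commuting involutions have the same centraliser. -/
theorem cent_eq (hA : AbInv G) {s t : G} (hs : orderOf s = 2) (ht : orderOf t = 2)
    (h : s * t = t * s) : centralizer ({s} : Set G) = centralizer ({t} : Set G) :=
  le_antisymm (fun _ hx => mem_cent.2 (hA.comm hs hx (mem_cent.2 h.symm)))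
    fun _ hx => mem_cent.2 (hA.comm ht hx (mem_cent.2 h))

theorem conj_mem_cent {t x : G} (g : G) :
    g * x * g⁻¹ ∈ centralizer ({g * t * g⁻¹} : Set G) ↔ x ∈ centralizer ({t} : Set G) := by
  simp only [mem_cent]
  constructor
  · intro h
    calc x * t = g⁻¹ * (g * x * g⁻¹ * (g * t * g⁻¹)) * g := by group
      _ = t * x := by rw [h]; group
  · intro h
    calc g * x * g⁻¹ * (g * t * g⁻¹) = g * (x * t) * g⁻¹ := by group
      _ = g * t * g⁻¹ * (g * x * g⁻¹) := by rw [h]; group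

/-- An element of even order has a power of order two. -/
theorem exists_pow_two {x : G} [Finite G] (h : 2 ∣ orderOf x) : orderOf (x ^ (orderOf x / 2)) = 2 := by
  have h0 := orderOf_pos x
  rw [orderOf_pow_of_dvd (by omega) (Nat.div_dvd_of_dvd h), Nat.div_div_self h h0.ne']

theorem mul_pow_inverted {i n : G} (h : i * n * i⁻¹ = n⁻¹) (k : ℕ) :
    i * n ^ k * i⁻¹ = (n ^ k)⁻¹ := by
  rw [← conj_pow, h, inv_pow]

variable [Finite G]

/-- The centraliser of an involution contains a Sylow `2`-subgroup. -/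
theorem exists_sylow_le (hA : AbInv G) {t : G} (ht : orderOf t = 2) :
    ∃ S : Sylow 2 G, (S : Subgroup G) ≤ centralizer ({t} : Set G) := by
  haveI : Fact (Nat.Prime 2) := ⟨Nat.prime_two⟩
  have hp : IsPGroup 2 ↥(zpowers t) := IsPGroup.of_card (n := 1) (by rw [Nat.card_zpowers, ht, pow_one])
  obtain ⟨S, hS⟩ := hp.exists_le_sylow
  have htS : t ∈ (S : Subgroup G) := hS (mem_zpowers t)
  haveI : Nontrivial ↥(S : Subgroup G) :=
    ⟨⟨⟨t, htS⟩, 1, fun e => by
      have : t = 1 := congrArg Subtype.val e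
      rw [this, orderOf_one] at ht; omega⟩⟩
  haveI := S.2.center_nontrivial
  obtain ⟨z, hz⟩ := exists_ne (1 : ↥(center ↥(S : Subgroup G)))
  have hz2 : 2 ∣ orderOf (z : ↥(S : Subgroup G)) := by
    obtain ⟨k, hk⟩ := (IsPGroup.iff_orderOf.mp S.2) (z : ↥(S : Subgroup G))
    rcases k with _ | k
    · exact absurd (orderOf_eq_one_iff.1 (hk.trans (pow_zero 2))) (fun e => hz (Subtype.ext e))
    · exact hk ▸ dvd_pow_self 2 k.succ_ne_zero
  set u : ↥(S : Subgroup G) := (z : ↥(S : Subgroup G)) ^ (orderOf (z : ↥(S : Subgroup G)) / 2) with hu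
  have hu2 : orderOf (u : G) = 2 := by rw [orderOf_coe, hu]; exact exists_pow_two hz2
  have huc : u ∈ center ↥(S : Subgroup G) := pow_mem z.2 _
  have hle : (S : Subgroup G) ≤ centralizer ({(u : G)} : Set G) := fun x hx =>
    mem_cent.2 (congrArg Subtype.val (mem_center_iff.1 huc ⟨x, hx⟩))
  refine ⟨S, ?_⟩
  rw [← cent_eq hA hu2 ht (mem_cent.1 (hle htS)).symm]
  exact hle

/-- The index of the centraliser of an involution is odd. -/
theorem odd_index (hA : AbInv G) {t : G} (ht : orderOf t = 2) :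
    ¬ 2 ∣ (centralizer ({t} : Set G)).index := by
  haveI : Fact (Nat.Prime 2) := ⟨Nat.prime_two⟩
  obtain ⟨S, hS⟩ := exists_sylow_le hA ht
  exact fun h => S.not_dvd_index (h.trans (index_dvd_of_le hS))

variable (t0 : G)

/-- The centraliser of `t0`. -/
abbrev A : Subgroup G := centralizer ({t0} : Set G)

/-- The normaliser of the centraliser of `t0`. -/
abbrev N : Subgroup G := normalizer (A t0 : Set G)

omit [Finite G] in
theorem t0_mem : t0 ∈ A t0 := mem_cent.2 rfl

omit [Finite G] in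
theorem A_le_N : A t0 ≤ N t0 := le_normalizer

variable {t0}

omit [Finite G] in
/-- `g` lies in `N` as soon as it conjugates an involution of `A` into `A`. -/
theorem mem_N (hA : AbInv G) (h0 : orderOf t0 = 2) {s g : G} (hs : orderOf s = 2) (hsA : s ∈ A t0)
    (hgs : g * s * g⁻¹ ∈ A t0) : g ∈ N t0 := by
  have e1 : centralizer ({s} : Set G) = A t0 := cent_eq hA hs h0 (mem_cent.1 hsA)
  have e2 : centralizer ({g * s * g⁻¹} : Set G) = A t0 :=
    cent_eq hA (by rwa [orderOf_conj']) h0 (mem_cent.1 hgs)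
  refine mem_normalizer_iff.2 fun x => ?_
  conv_lhs => rw [← e1, ← conj_mem_cent g, e2]
where
  orderOf_conj' {g s : G} : orderOf (g * s * g⁻¹) = orderOf s :=
    orderOf_injective (MulAut.conj g).toMonoidHom (MulAut.conj g).injective s

/-- An element of `N` whose order is a power of two lies in `A`. -/
theorem mem_A_of_two (hA : AbInv G) (h0 : orderOf t0 = 2) {x : G} (hx : x ∈ N t0) (hx2 : orderOf x = 2) :
    x ∈ A t0 := by
  haveI : ((A t0).subgroupOf (N t0)).Normal := (normal_subgroupOf_iff_le_normalizer (A_le_N t0)).2 le_rfl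
  have hodd : ¬ 2 ∣ (A t0).relIndex (N t0) := fun h =>
    odd_index hA h0 (h.trans (relIndex_dvd_index_of_le (A_le_N t0)))
  have h1 : (⟨x, hx⟩ : N t0) ^ (A t0).relIndex (N t0) ∈ (A t0).subgroupOf (N t0) :=
    pow_index_mem _ _
  rw [mem_subgroupOf, coe_pow] at h1
  obtain ⟨k, hk⟩ : ∃ k, (A t0).relIndex (N t0) = 2 * k + 1 := ⟨_, (Nat.div_add_mod _ 2).symm.trans
    (by rw [Nat.two_dvd_ne_zero.1 hodd])⟩
  rwa [hk, pow_succ, pow_mul, ← hx2, pow_orderOf_eq_one, one_pow, one_mul] at h1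

/-- An involution of `A` is conjugate to every involution outside `N`, in any subgroup containing
both. -/
theorem exists_conj_outside (hA : AbInv G) (h0 : orderOf t0 = 2) {s t : G} (hs : orderOf s = 2)
    (hsA : s ∈ A t0) (ht : orderOf t = 2) (htN : t ∉ N t0) :
    ∃ g ∈ closure ({s, t} : Set G), g * s * g⁻¹ = t := by
  have hodd : ¬ 2 ∣ orderOf (s * t) := by
    intro h
    have hu := exists_pow_two h
    set u := (s * t) ^ (orderOf (s * t) / 2) with hu'
    have hsu : s * (s * t) * s⁻¹ = (s * t)⁻¹ := by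
      rw [mul_inv_rev, inv_eq_self hs, inv_eq_self ht, ← mul_assoc s s t, mul_self_eq_one hs, one_mul]
    have htu : t * (s * t) * t⁻¹ = (s * t)⁻¹ := by
      rw [mul_inv_rev, inv_eq_self hs, inv_eq_self ht]
      simp only [mul_assoc, mul_self_eq_one ht, mul_one]
    have h1 : s * u = u * s := by
      have := mul_pow_inverted hsu (orderOf (s * t) / 2)
      rwa [← hu', inv_eq_self hu, mul_inv_eq_iff_eq_mul] at this
    have h2 : t * u = u * t := by
      have := mul_pow_inverted htu (orderOf (s * t) / 2)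
      rwa [← hu', inv_eq_self hu, mul_inv_eq_iff_eq_mul] at this
    have htA : t ∈ A t0 := by
      rw [← (show centralizer ({u} : Set G) = A t0 from (cent_eq hA hu hs h1.symm).trans (cent_eq hA hs h0 (mem_cent.1 hsA)))]
      exact mem_cent.2 h2
    exact htN (A_le_N t0 htA)
  obtain ⟨k, hk⟩ : ∃ k, orderOf (s * t) = 2 * k + 1 := ⟨_, (Nat.div_add_mod _ 2).symm.trans
    (by rw [Nat.two_dvd_ne_zero.1 hodd])⟩
  refine ⟨((s * t) ^ (k + 1))⁻¹, inv_mem (pow_mem (mul_mem (subset_closure (by simp))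
    (subset_closure (by simp))) _), ?_⟩
  have hsx : s * (s * t) * s⁻¹ = (s * t)⁻¹ := by
    rw [mul_inv_rev, inv_eq_self hs, inv_eq_self ht, ← mul_assoc s s t, mul_self_eq_one hs, one_mul]
  have h1 := mul_pow_inverted hsx (k + 1)
  rw [mul_inv_eq_iff_eq_mul] at h1
  have e : (s * t) ^ (k + 1) * (s * t) ^ (k + 1) = s * t := by
    rw [← pow_add, show k + 1 + (k + 1) = orderOf (s * t) + 1 by omega, pow_succ, pow_orderOf_eq_one,
      one_mul]
  calc ((s * t) ^ (k + 1))⁻¹ * s * ((s * t) ^ (k + 1))⁻¹⁻¹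
      = s * ((s * t) ^ (k + 1) * (s * t) ^ (k + 1)) := by
        rw [inv_inv, ← h1, mul_assoc]
    _ = t := by rw [e, ← mul_assoc, mul_self_eq_one hs, one_mul]

section NotNormal

variable (hA : AbInv G) (h0 : orderOf t0 = 2) (hN : N t0 ≠ ⊤)

include hA h0 hN

theorem exists_outside : ∃ t : G, orderOf t = 2 ∧ t ∉ N t0 := by
  obtain ⟨g, hg⟩ : ∃ g, g ∉ N t0 := by
    by_contra hc; exact hN (eq_top_iff' _ |>.2 (by push Not at hc; exact hc))
  have hg2 : orderOf (g * t0 * g⁻¹) = 2 :=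
    (orderOf_injective (MulAut.conj g).toMonoidHom (MulAut.conj g).injective t0).trans h0
  exact ⟨_, hg2, fun h => hg (mem_N hA h0 h0 (t0_mem t0) (mem_A_of_two hA h0 h hg2))⟩

/-- All involutions are conjugate. -/
theorem exists_conj {s : G} (hs : orderOf s = 2) : ∃ g, g * t0 * g⁻¹ = s := by
  obtain ⟨t, ht, htN⟩ := exists_outside hA h0 hN
  by_cases hsN : s ∈ N t0
  · obtain ⟨g, -, hg⟩ := exists_conj_outside hA h0 h0 (t0_mem t0) ht htN
    obtain ⟨k, -, hk⟩ := exists_conj_outside hA h0 hs (mem_A_of_two hA h0 hsN hs) ht htN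
    exact ⟨k⁻¹ * g, by rw [← hg] at hk; calc k⁻¹ * g * t0 * (k⁻¹ * g)⁻¹ = k⁻¹ * (g * t0 * g⁻¹) * k := by group
      _ = s := by rw [← hk]; group⟩
  · obtain ⟨g, -, hg⟩ := exists_conj_outside hA h0 h0 (t0_mem t0) hs hsN
    exact ⟨g, hg⟩

/-- The number of involutions is the index of `A`. -/
theorem card_involutions : Nat.card {x : G // orderOf x = 2} = (A t0).index := by
  rw [Subgroup.index]
  refine (Nat.card_eq_of_bijective
    (fun q : G ⧸ A t0 => (⟨q.out * t0 * q.out⁻¹,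
      (orderOf_injective (MulAut.conj q.out).toMonoidHom (MulAut.conj q.out).injective t0).trans h0⟩ :
      {x : G // orderOf x = 2})) ⟨fun q q' h => ?_, fun x => ?_⟩).symm
  · have h' : q.out * t0 * q.out⁻¹ = q'.out * t0 * q'.out⁻¹ := congrArg Subtype.val h
    rw [← q.out_eq', ← q'.out_eq', QuotientGroup.eq]
    refine mem_cent.2 ?_
    calc q.out⁻¹ * q'.out * t0 = q.out⁻¹ * (q'.out * t0 * q'.out⁻¹) * q'.out := by group
      _ = q.out⁻¹ * (q.out * t0 * q.out⁻¹) * q'.out := by rw [h']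
      _ = t0 * (q.out⁻¹ * q'.out) := by group
  · obtain ⟨g, hg⟩ := exists_conj hA h0 hN x.2
    refine ⟨(g : G ⧸ A t0), Subtype.ext ?_⟩
    obtain ⟨⟨c, hc⟩, hcg⟩ := QuotientGroup.mk_out_eq_mul (A t0) g
    show ((g : G ⧸ A t0)).out * t0 * ((g : G ⧸ A t0)).out⁻¹ = x
    rw [hcg, ← hg]
    calc g * c * t0 * (g * c)⁻¹ = g * (c * t0) * c⁻¹ * g⁻¹ := by group
      _ = g * t0 * g⁻¹ := by rw [mem_cent.1 hc]; group

/-- The involutions of `N` are those of `A`, and `N` is transitive on them. -/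
theorem card_involutions_N :
    Nat.card {x : G // orderOf x = 2 ∧ x ∈ N t0} = (A t0).relIndex (N t0) := by
  rw [Subgroup.relIndex, Subgroup.index]
  have hmem : ∀ n : N t0, (n : G) * t0 * (n : G)⁻¹ ∈ A t0 := fun n =>
    (mem_normalizer_iff.1 n.2 t0).1 (t0_mem t0)
  refine (Nat.card_eq_of_bijective
    (fun q : N t0 ⧸ (A t0).subgroupOf (N t0) => (⟨(q.out : G) * t0 * (q.out : G)⁻¹,
      (orderOf_injective (MulAut.conj (q.out : G)).toMonoidHom (MulAut.conj (q.out : G)).injective t0).trans h0,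
      A_le_N t0 (hmem q.out)⟩ : {x : G // orderOf x = 2 ∧ x ∈ N t0})) ⟨fun q q' h => ?_, fun x => ?_⟩).symm
  · have h' : (q.out : G) * t0 * (q.out : G)⁻¹ = (q'.out : G) * t0 * (q'.out : G)⁻¹ :=
      congrArg Subtype.val h
    rw [← q.out_eq', ← q'.out_eq', QuotientGroup.eq, mem_subgroupOf]
    refine mem_cent.2 ?_
    simp only [coe_mul, coe_inv]
    calc (q.out : G)⁻¹ * q'.out * t0
        = (q.out : G)⁻¹ * ((q'.out : G) * t0 * (q'.out : G)⁻¹) * q'.out := by group
      _ = (q.out : G)⁻¹ * ((q.out : G) * t0 * (q.out : G)⁻¹) * q'.out := by rw [h']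
      _ = t0 * ((q.out : G)⁻¹ * q'.out) := by group
  · obtain ⟨g, hg⟩ := exists_conj hA h0 hN x.2.1
    have hgN : g ∈ N t0 := mem_N hA h0 h0 (t0_mem t0) (hg ▸ mem_A_of_two hA h0 x.2.2 x.2.1)
    refine ⟨((⟨g, hgN⟩ : N t0) : N t0 ⧸ (A t0).subgroupOf (N t0)), Subtype.ext ?_⟩
    obtain ⟨⟨c, hc⟩, hcg⟩ := QuotientGroup.mk_out_eq_mul ((A t0).subgroupOf (N t0)) ⟨g, hgN⟩
    simp only
    rw [hcg, coe_mul, ← hg]
    calc g * (c : G) * t0 * (g * (c : G))⁻¹ = g * ((c : G) * t0) * (c : G)⁻¹ * g⁻¹ := by group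
      _ = g * t0 * g⁻¹ := by rw [mem_cent.1 (mem_subgroupOf.1 hc)]; group

/-- An element of `A` inverted by an involution outside `N` is trivial. -/
theorem eq_one_of_inverted {i n : G} (hi : orderOf i = 2) (hiN : i ∉ N t0) (hn : n ∈ A t0)
    (hin : i * n * i⁻¹ = n⁻¹) : n = 1 := by
  have hodd : ¬ 2 ∣ orderOf n := by
    intro h
    have hu := exists_pow_two h
    set u := n ^ (orderOf n / 2)
    have h1 := mul_pow_inverted hin (orderOf n / 2)
    rw [inv_eq_self hu, mul_inv_eq_iff_eq_mul] at h1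
    have huA : u ∈ A t0 := pow_mem hn _
    apply hiN
    apply A_le_N t0
    rw [← (show centralizer ({u} : Set G) = A t0 from cent_eq hA hu h0 (mem_cent.1 huA))]
    exact mem_cent.2 h1
  set L := centralizer ({n} : Set G) with hL
  have hAL : A t0 ≤ L := fun x hx => mem_cent.2 (hA.comm h0 hx hn)
  have hiL : ∀ x ∈ L, i * x * i⁻¹ ∈ L := fun x hx => mem_cent.2 (by
    have hn' : n = i * n⁻¹ * i⁻¹ := by
      rw [show i * n⁻¹ * i⁻¹ = (i * n * i⁻¹)⁻¹ by group, hin, inv_inv]
    have hx' : x * n⁻¹ = n⁻¹ * x := ((Commute.inv_right (show Commute x n from mem_cent.1 hx))).eq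
    rw [hn']
    calc i * x * i⁻¹ * (i * n⁻¹ * i⁻¹) = i * (x * n⁻¹) * i⁻¹ := by group
      _ = i * n⁻¹ * i⁻¹ * (i * x * i⁻¹) := by rw [hx']; group)
  set t := i * t0 * i⁻¹ with ht'
  have ht : orderOf t = 2 :=
    (orderOf_injective (MulAut.conj i).toMonoidHom (MulAut.conj i).injective t0).trans h0
  have htL : t ∈ L := hiL t0 (hAL (t0_mem t0))
  have htN : t ∉ N t0 := fun h => hiN (mem_N hA h0 h0 (t0_mem t0) (mem_A_of_two hA h0 h ht))
  -- `i` lies in `L`
  obtain ⟨l, hl, hlt⟩ := exists_conj_outside hA h0 h0 (t0_mem t0) ht htN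
  have hlL : l ∈ L := (closure_le L).2 (by
    rintro x (rfl | rfl)
    · exact hAL (t0_mem x)
    · exact htL) hl
  have hli : l⁻¹ * i ∈ A t0 := mem_cent.2 (by
    calc l⁻¹ * i * t0 = l⁻¹ * (i * t0 * i⁻¹) * i := by group
      _ = l⁻¹ * (l * t0 * l⁻¹) * i := by rw [← ht', hlt]
      _ = t0 * (l⁻¹ * i) := by group)
  have hiL' : i ∈ L := by
    have := mul_mem hlL (hAL hli)
    rwa [mul_inv_cancel_left] at this
  have h1 : n⁻¹ = n := by
    rw [← hin, mul_inv_eq_iff_eq_mul]; exact mem_cent.1 hiL'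
  by_contra hne
  have h2 : orderOf n = 2 := orderOf_eq_prime (by
    rw [pow_two]; nth_rw 1 [← h1]; exact inv_mul_cancel n) hne
  exact hodd (h2 ▸ dvd_rfl)

/-- Each coset `g A` outside `N` contains exactly one involution. -/
theorem existsUnique_involution {g : G} (hg : g ∉ N t0) :
    ∃! j : G, orderOf j = 2 ∧ g⁻¹ * j ∈ A t0 := by
  classical
  have hout : ∀ {g j : G}, g ∉ N t0 → g⁻¹ * j ∈ A t0 → j ∉ N t0 := by
    intro g j hg hj hjN
    exact hg (by
      have := mul_mem hjN (inv_mem (A_le_N t0 hj))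
      simpa using this)
  have huniq : ∀ i j : G, orderOf i = 2 → orderOf j = 2 → i ∉ N t0 → i⁻¹ * j ∈ A t0 → i = j := by
    intro i j hi hj hiN h
    refine inv_mul_eq_one.1 (eq_one_of_inverted hA h0 hN hi hiN h ?_)
    rw [mul_inv_rev, inv_inv, inv_eq_self hj, inv_eq_self hi]
    simp only [← mul_assoc, mul_self_eq_one hi, one_mul]
  refine ?_
  let f : {x : G // orderOf x = 2 ∧ x ∉ N t0} → {q : G ⧸ A t0 // ∀ x ∈ N t0, (x : G ⧸ A t0) ≠ q} :=
    fun x => ⟨(x.1 : G ⧸ A t0), fun y hy h => x.2.2 (by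
      have := mul_mem hy (A_le_N t0 (QuotientGroup.eq.1 h))
      simpa using this)⟩
  have hf : Function.Injective f := fun x y h =>
    Subtype.ext (huniq x y x.2.1 y.2.1 x.2.2 (QuotientGroup.eq.1 (congrArg Subtype.val h)))
  have hc1 : Nat.card {x : G // orderOf x = 2 ∧ x ∉ N t0} + (A t0).relIndex (N t0) = (A t0).index := by
    rw [← card_involutions hA h0 hN, ← card_involutions_N hA h0 hN, ← Nat.card_sum]
    refine Nat.card_congr (Equiv.trans ?_ (Equiv.sumCompl fun x : {x : G // orderOf x = 2} => x.1 ∉ N t0))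
    exact
      { toFun := fun x => x.elim (fun a => Sum.inl ⟨⟨a.1, a.2.1⟩, a.2.2⟩)
          (fun a => Sum.inr ⟨⟨a.1, a.2.1⟩, not_not.2 a.2.2⟩)
        invFun := fun x => x.elim (fun a => Sum.inl ⟨a.1.1, a.1.2, a.2⟩)
          (fun a => Sum.inr ⟨a.1.1, a.1.2, not_not.1 a.2⟩)
        left_inv := fun x => by rcases x with a | a <;> rfl
        right_inv := fun x => by rcases x with a | a <;> rfl }
  have hc2 : Nat.card {q : G ⧸ A t0 // ∀ x ∈ N t0, (x : G ⧸ A t0) ≠ q} + (A t0).relIndex (N t0) =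
      (A t0).index := by
    conv_rhs => rw [Subgroup.index, ← Nat.card_congr
      (Equiv.sumCompl fun q : G ⧸ A t0 => ∀ x ∈ N t0, (x : G ⧸ A t0) ≠ q), Nat.card_sum]
    congr 1
    rw [Subgroup.relIndex, Subgroup.index]
    refine Nat.card_eq_of_bijective
      (fun q : N t0 ⧸ (A t0).subgroupOf (N t0) =>
        (⟨((q.out : G) : G ⧸ A t0), fun h => h q.out q.out.2 rfl⟩ :
          {q : G ⧸ A t0 // ¬ ∀ x ∈ N t0, (x : G ⧸ A t0) ≠ q}))
      ⟨fun q q' h => ?_, fun x => ?_⟩
    · rw [← q.out_eq', ← q'.out_eq', QuotientGroup.eq, mem_subgroupOf]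
      simpa using QuotientGroup.eq.1 (congrArg Subtype.val h)
    · obtain ⟨y, hy⟩ := not_forall.1 x.2
      rw [Classical.not_imp, not_not] at hy
      refine ⟨((⟨y, hy.1⟩ : N t0) : N t0 ⧸ (A t0).subgroupOf (N t0)), Subtype.ext ?_⟩
      obtain ⟨⟨c, hc⟩, hcg⟩ := QuotientGroup.mk_out_eq_mul ((A t0).subgroupOf (N t0)) ⟨y, hy.1⟩
      show ((((⟨y, hy.1⟩ : N t0) : N t0 ⧸ (A t0).subgroupOf (N t0)).out : G) : G ⧸ A t0) = x.1
      rw [hcg]
      exact (QuotientGroup.mk_mul_of_mem y (mem_subgroupOf.1 hc)).trans hy.2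
  have hbij := hf.bijective_of_nat_card_le (by omega)
  obtain ⟨⟨j, hj, hjN⟩, hje⟩ := hbij.2 ⟨(g : G ⧸ A t0), fun y hy h => hg (by
    have := mul_mem hy (A_le_N t0 (QuotientGroup.eq.1 h))
    simpa using this)⟩
  have hje' : g⁻¹ * j ∈ A t0 := QuotientGroup.eq.1 (congrArg Subtype.val hje).symm
  refine ⟨j, ⟨hj, hje'⟩, fun k hk => ?_⟩
  refine huniq k j hk.1 hj (hout hg hk.2) ?_
  have := mul_mem (inv_mem hk.2) hje'
  simpa [mul_assoc] using this

end NotNormal

end CfsgLib.PLocal.CAGroup
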