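import Mathlib
import Cfsg.Agent.Lib.PLocal.CAGroup.Involutions

/-!
# The two-point stabiliser in a group with abelian centralisers

Owner: helper10. `A = C(t₀)`, `N = N(A)`, `i` an involution outside `N`; `D = N ∩ N^i` is a complement
of `A` in `N` inverted by `i`, and it fixes exactly two points of `G ⧸ N`.
-/

set_option autoImplicit false

namespace CfsgLib.PLocal.CAGroup

open Subgroup

variable {G : Type*} [Group G] [Finite G]

/-- The centraliser of every non-identity element is abelian. -/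
def AbCent (G : Type*) [Group G] : Prop :=
  ∀ x : G, x ≠ 1 → ∀ a ∈ centralizer ({x} : Set G), ∀ b ∈ centralizer ({x} : Set G), a * b = b * a

omit [Finite G] in
theorem AbCent.abInv (h : AbCent G) : AbInv G := fun t ht => ⟨⟨fun a b => Subtype.ext (h t (fun e => by
  rw [e, orderOf_one] at ht; omega) a a.2 b b.2)⟩⟩

omit [Finite G] in
/-- Commuting non-identity elements have the same centraliser. -/
theorem AbCent.cent_eq (h : AbCent G) {x y : G} (hx : x ≠ 1) (hy : y ≠ 1) (hxy : x * y = y * x) :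
    centralizer ({x} : Set G) = centralizer ({y} : Set G) :=
  le_antisymm (fun _ hz => mem_cent.2 (h x hx _ hz _ (mem_cent.2 hxy.symm)))
    fun _ hz => mem_cent.2 (h y hy _ hz _ (mem_cent.2 hxy))

/-- An involution centralising no non-identity element of a normalised finite subgroup inverts it. -/
theorem inverted_of_fpf {i : G} (hi : orderOf i = 2) (B : Subgroup G)
    (hB : ∀ x ∈ B, i * x * i⁻¹ ∈ B) (hfree : ∀ x ∈ B, i * x * i⁻¹ = x → x = 1) :
    ∀ x ∈ B, i * x * i⁻¹ = x⁻¹ := by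
  let f : B → B := fun y => ⟨(y : G)⁻¹ * (i * y * i⁻¹), mul_mem (inv_mem y.2) (hB y y.2)⟩
  have hf : Function.Injective f := fun y y' e => Subtype.ext (by
    have e' : (y : G)⁻¹ * (i * y * i⁻¹) = (y' : G)⁻¹ * (i * y' * i⁻¹) := congrArg Subtype.val e
    refine (mul_inv_eq_one.1 (hfree _ (mul_mem y'.2 (inv_mem y.2)) ?_)).symm
    calc i * ((y' : G) * (y : G)⁻¹) * i⁻¹
        = (y' : G) * ((y' : G)⁻¹ * (i * y' * i⁻¹)) * ((y : G) * ((y : G)⁻¹ * (i * y * i⁻¹)))⁻¹ := by group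
      _ = (y' : G) * (y : G)⁻¹ := by rw [← e']; group)
  intro x hx
  obtain ⟨y, hy⟩ := (Finite.injective_iff_surjective.1 hf) ⟨x, hx⟩
  have hy' : x = (y : G)⁻¹ * (i * y * i⁻¹) := (congrArg Subtype.val hy).symm
  have hii : i * i * (y : G) * (i * i)⁻¹ = y := by rw [mul_self_eq_one hi, inv_one, mul_one, one_mul]
  rw [hy']
  calc i * ((y : G)⁻¹ * (i * y * i⁻¹)) * i⁻¹ = i * (y : G)⁻¹ * i⁻¹ * (i * i * y * (i * i)⁻¹) := by group
    _ = ((y : G)⁻¹ * (i * y * i⁻¹))⁻¹ := by rw [hii]; group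

/-- `N ∩ N^i`. -/
def D (t0 i : G) : Subgroup G := N t0 ⊓ (N t0).comap (MulAut.conj i).toMonoidHom

omit [Finite G] in
theorem mem_D {t0 i x : G} : x ∈ D t0 i ↔ x ∈ N t0 ∧ i * x * i⁻¹ ∈ N t0 := Iff.rfl

/-- Hypotheses. -/
structure Setup (t0 i : G) : Prop where
  ab : AbInv G
  h0 : orderOf t0 = 2
  hN : N t0 ≠ ⊤
  hi : orderOf i = 2
  hiN : i ∉ N t0
  h3 : 2 ≤ (A t0).relIndex (N t0)
  dA : ∀ j : G, orderOf j = 2 → j ∉ N t0 → ∀ a ∈ A t0, a ∈ D t0 j → a = 1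
  dI : ∀ j : G, orderOf j = 2 → j ∉ N t0 → ∀ d ∈ D t0 j, d ≠ 1 → j * d * j⁻¹ = d⁻¹ →
    ∀ b : G, b * d = d * b → j * b * j⁻¹ = b → b = 1

variable {t0 i : G}

omit [Finite G] in
theorem AbCent.cent_A (h : AbCent G) (h0 : orderOf t0 = 2) {x : G} (hx : x ∈ A t0) (hx1 : x ≠ 1) :
    centralizer ({x} : Set G) = A t0 :=
  h.cent_eq hx1 (fun e => by rw [e, orderOf_one] at h0; omega) (mem_cent.1 hx)

omit [Finite G] in
theorem AbCent.ti (h : AbCent G) (h0 : orderOf t0 = 2) {x g : G} (hx : x ∈ A t0) (hx1 : x ≠ 1)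
    (hgx : g * x * g⁻¹ ∈ A t0) : g ∈ N t0 := by
  have e2 := h.cent_A h0 hgx (fun e => hx1 (conj_eq_one_iff.1 e))
  refine mem_normalizer_iff.2 fun y => ?_
  conv_lhs => rw [← h.cent_A h0 hx hx1, ← conj_mem_cent g, e2]

/-- Groups with abelian centralisers satisfy the hypotheses. -/
theorem AbCent.setup (h : AbCent G) (h0 : orderOf t0 = 2) (hN : N t0 ≠ ⊤) (hi : orderOf i = 2)
    (hiN : i ∉ N t0) (h3 : 2 ≤ (A t0).relIndex (N t0)) : Setup t0 i := by
  refine ⟨h.abInv, h0, hN, hi, hiN, h3, fun j hj hjN a ha haD => ?_, fun j hj hjN d hd hd1 hjd b hbd hbj => ?_⟩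
  · obtain ⟨haN, hia⟩ := mem_D.1 haD
    set b := j * a * j⁻¹ with hb
    by_contra ha1
    have h1 : b * a * b⁻¹ * a⁻¹ ∈ A t0 :=
      mul_mem ((mem_normalizer_iff.1 hia a).1 ha) (inv_mem ha)
    have h2 : j * (b * a * b⁻¹ * a⁻¹) * j⁻¹ ∈ A t0 := by
      rw [show j * (b * a * b⁻¹ * a⁻¹) * j⁻¹ = (j * b * j⁻¹) * (b * (j * b⁻¹ * j⁻¹) * b⁻¹) by
        simp only [hb]; group]
      have hib : j * b * j⁻¹ = a := by
        simp only [hb, inv_eq_self hj]
        calc j * (j * a * j) * j = (j * j) * a * (j * j) := by group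
          _ = a := by rw [mul_self_eq_one hj, one_mul, mul_one]
      rw [show j * b⁻¹ * j⁻¹ = (j * b * j⁻¹)⁻¹ by group, hib]
      exact mul_mem ha ((mem_normalizer_iff.1 hia _).1 (inv_mem ha))
    by_cases hc : b * a * b⁻¹ * a⁻¹ = 1
    · have hbA : b ∈ A t0 := by
        rw [← h.cent_A h0 ha ha1]
        refine mem_cent.2 ?_
        calc b * a = (b * a * b⁻¹ * a⁻¹) * (a * b) := by group
          _ = a * b := by rw [hc, one_mul]
      exact hjN (h.ti h0 ha ha1 hbA)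
    · exact hjN (h.ti h0 h1 hc h2)
  · by_contra hb1
    have hjb : j ∈ centralizer ({b} : Set G) := mem_cent.2 (by rwa [mul_inv_eq_iff_eq_mul] at hbj)
    have hcomm := h b hb1 j hjb d (mem_cent.2 hbd.symm)
    have h2 : d⁻¹ = d := by rw [← hjd, hcomm, mul_inv_cancel_right]
    have hd2 : orderOf d = 2 :=
      orderOf_eq_prime (by rw [pow_two]; nth_rw 1 [← h2]; exact inv_mul_cancel d) hd1
    obtain ⟨hdN, hdN'⟩ := mem_D.1 hd
    have hdA := mem_A_of_two h.abInv h0 hdN hd2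
    rw [hjd, h2] at hdN'
    exact hjN (h.ti h0 hdA hd1 (by rw [hjd, h2]; exact hdA))

namespace Setup

variable (h : Setup t0 i)
include h

theorem change (j : G) (hj : orderOf j = 2) (hjN : j ∉ N t0) : Setup t0 j :=
  ⟨h.ab, h.h0, h.hN, hj, hjN, h.h3, h.dA, h.dI⟩

theorem D_inf_A {a : G} (ha : a ∈ A t0) (haD : a ∈ D t0 i) : a = 1 := h.dA i h.hi h.hiN a ha haD

theorem card_D_le {K : Subgroup G} (hK : K ≤ N t0) (hKA : ∀ a ∈ A t0, a ∈ K → a = 1) :
    Nat.card K ≤ (A t0).relIndex (N t0) := by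
  rw [Subgroup.relIndex, Subgroup.index]
  refine Nat.card_le_card_of_injective
    (fun x : K => ((⟨x, hK x.2⟩ : N t0) : N t0 ⧸ (A t0).subgroupOf (N t0))) fun x y e => ?_
  have e' := mem_subgroupOf.1 (QuotientGroup.eq.1 e)
  exact Subtype.ext (inv_mul_eq_one.1 (hKA _ e' (mul_mem (inv_mem x.2) y.2)))

/-- The involutions in a coset `g N` outside `N`. -/
theorem card_coset {g : G} (hg : g ∉ N t0) :
    Nat.card {j : G // orderOf j = 2 ∧ g⁻¹ * j ∈ N t0} = (A t0).relIndex (N t0) := by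
  rw [Subgroup.relIndex, Subgroup.index]
  have hgq : ∀ q : N t0 ⧸ (A t0).subgroupOf (N t0), g * (q.out : G) ∉ N t0 := fun q hh => hg (by
    simpa using mul_mem hh (inv_mem q.out.2))
  choose j hj hju using fun q => existsUnique_involution h.ab h.h0 h.hN (hgq q)
  refine (Nat.card_eq_of_bijective (fun q => (⟨j q, (hj q).1, by
    have := mul_mem q.out.2 (A_le_N t0 (hj q).2)
    simpa [mul_assoc] using this⟩ : {x : G // orderOf x = 2 ∧ g⁻¹ * x ∈ N t0})) ⟨fun q q' e => ?_, fun x => ?_⟩).symm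
  · have e' : j q = j q' := congrArg Subtype.val e
    rw [← q.out_eq', ← q'.out_eq', QuotientGroup.eq, mem_subgroupOf, coe_mul, coe_inv]
    have := mul_mem (hj q).2 (inv_mem (hj q').2)
    rw [e'] at this
    simpa [mul_assoc] using this
  · refine ⟨((⟨g⁻¹ * x.1, x.2.2⟩ : N t0) : N t0 ⧸ (A t0).subgroupOf (N t0)), Subtype.ext ?_⟩
    refine (hju _ x.1 ⟨x.2.1, ?_⟩).symm
    obtain ⟨⟨c, hc⟩, hcg⟩ := QuotientGroup.mk_out_eq_mul ((A t0).subgroupOf (N t0)) ⟨g⁻¹ * x.1, x.2.2⟩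
    rw [hcg, coe_mul]
    have := inv_mem (mem_subgroupOf.1 hc)
    simpa [mul_assoc] using this

theorem prod_mem {j : G} (hj : orderOf j = 2) (hjN : i⁻¹ * j ∈ N t0) :
    i * j ∈ D t0 i ∧ i * (i * j) * i⁻¹ = (i * j)⁻¹ := by
  have e : i * (i * j) * i⁻¹ = (i * j)⁻¹ := by
    rw [mul_inv_rev, inv_eq_self h.hi, inv_eq_self hj, ← mul_assoc i i j, mul_self_eq_one h.hi, one_mul]
  have hij : i * j ∈ N t0 := by rwa [inv_eq_self h.hi] at hjN
  exact ⟨mem_D.2 ⟨hij, e ▸ inv_mem hij⟩, e⟩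

/-- `D` has order `[N : A]` and is inverted by `i`. -/
theorem D_data : Nat.card (D t0 i) = (A t0).relIndex (N t0) ∧ ∀ d ∈ D t0 i, i * d * i⁻¹ = d⁻¹ := by
  let ψ : {j : G // orderOf j = 2 ∧ i⁻¹ * j ∈ N t0} → D t0 i := fun j =>
    ⟨i * j.1, (h.prod_mem j.2.1 j.2.2).1⟩
  have hψ : Function.Injective ψ := fun a b e => Subtype.ext (mul_left_cancel (congrArg Subtype.val e))
  have hle := h.card_D_le (K := D t0 i) inf_le_left (fun a ha haD => h.D_inf_A ha haD)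
  have hge := Nat.card_le_card_of_injective ψ hψ
  rw [h.card_coset h.hiN] at hge
  refine ⟨le_antisymm hle hge, fun d hd => ?_⟩
  obtain ⟨j, hj⟩ := (hψ.bijective_of_nat_card_le (by rw [h.card_coset h.hiN]; omega)).2 ⟨d, hd⟩
  have := congrArg Subtype.val hj
  simp only [ψ] at this
  rw [← this]
  exact (h.prod_mem j.2.1 j.2.2).2

theorem D_comm {x y : G} (hx : x ∈ D t0 i) (hy : y ∈ D t0 i) : x * y = y * x := by
  have e := h.D_data.2 _ (mul_mem hx hy)
  rw [show i * (x * y) * i⁻¹ = (i * x * i⁻¹) * (i * y * i⁻¹) by group, h.D_data.2 x hx, h.D_data.2 y hy,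
    ← mul_inv_rev, inv_inj] at e
  exact e.symm

theorem exists_D : ∃ d ∈ D t0 i, d ≠ 1 := by
  rcases (D t0 i).bot_or_exists_ne_one with e | e
  · have := h.D_data.1
    rw [e, card_bot] at this
    have := h.h3
    omega
  · exact e

theorem sq_ne {d : G} (hd : d ∈ D t0 i) (hd1 : d ≠ 1) : d⁻¹ ≠ d := fun e => by
  have h2 : orderOf d = 2 := orderOf_eq_prime (by rw [pow_two]; nth_rw 1 [← e]; exact inv_mul_cancel d) hd1
  exact hd1 (h.D_inf_A (mem_A_of_two h.ab h.h0 (mem_D.1 hd).1 h2) hd)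

theorem not_mem_A {d : G} (hd : d ∈ D t0 i) (hd1 : d ≠ 1) : d ∉ A t0 := fun hA => hd1 (h.D_inf_A hA hd)

/-- `i` inverts `C(d)`. -/
theorem cent_inverted {d b : G} (hd : d ∈ D t0 i) (hd1 : d ≠ 1) (hb : b ∈ centralizer ({d} : Set G)) :
    i * b * i⁻¹ = b⁻¹ := by
  have hid := h.D_data.2 d hd
  refine inverted_of_fpf h.hi (centralizer ({d} : Set G)) (fun x hx => mem_cent.2 ?_)
    (fun x hx hxi => h.dI i h.hi h.hiN d hd hd1 hid x (mem_cent.1 hx) hxi) b hb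
  have hd' : d = i * d⁻¹ * i⁻¹ := by
    rw [show i * d⁻¹ * i⁻¹ = (i * d * i⁻¹)⁻¹ by group, hid, inv_inv]
  have hx' : x * d⁻¹ = d⁻¹ * x := (Commute.inv_right (show Commute x d from mem_cent.1 hx)).eq
  rw [hd']
  calc i * x * i⁻¹ * (i * d⁻¹ * i⁻¹) = i * (x * d⁻¹) * i⁻¹ := by group
    _ = i * d⁻¹ * i⁻¹ * (i * x * i⁻¹) := by rw [hx']; group

theorem cent_comm {d x y : G} (hd : d ∈ D t0 i) (hd1 : d ≠ 1) (hx : x ∈ centralizer ({d} : Set G))
    (hy : y ∈ centralizer ({d} : Set G)) : x * y = y * x := by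
  have e := h.cent_inverted hd hd1 (mul_mem hx hy)
  rw [show i * (x * y) * i⁻¹ = (i * x * i⁻¹) * (i * y * i⁻¹) by group, h.cent_inverted hd hd1 hx,
    h.cent_inverted hd hd1 hy, ← mul_inv_rev, inv_inj] at e
  exact e.symm

theorem cent_inf_A {d b : G} (hd : d ∈ D t0 i) (hd1 : d ≠ 1) (hb : b ∈ A t0)
    (hbd : b ∈ centralizer ({d} : Set G)) : b = 1 :=
  eq_one_of_inverted h.ab h.h0 h.hN h.hi h.hiN hb (h.cent_inverted hd hd1 hbd)

/-- `C(d) ∩ N = D`. -/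
theorem cent_inf_N {d x : G} (hd : d ∈ D t0 i) (hd1 : d ≠ 1) (hx : x ∈ N t0)
    (hxd : x ∈ centralizer ({d} : Set G)) : x ∈ D t0 i := by
  have hle : D t0 i ≤ centralizer ({d} : Set G) ⊓ N t0 := fun y hy =>
    ⟨mem_cent.2 (h.D_comm hy hd), (mem_D.1 hy).1⟩
  have hc := h.card_D_le (K := centralizer ({d} : Set G) ⊓ N t0) inf_le_right
    (fun a ha hac => h.cent_inf_A hd hd1 ha hac.1)
  have := Subgroup.eq_of_le_of_card_ge hle (hc.trans h.D_data.1.ge)
  rw [this]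
  exact ⟨hxd, hx⟩

/-- Decomposition `N = A D`. -/
theorem exists_mul {n : G} (hn : n ∈ N t0) : ∃ a ∈ A t0, ∃ d ∈ D t0 i, n = a * d := by
  have hinj : Function.Injective (fun x : D t0 i =>
      ((⟨x, (mem_D.1 x.2).1⟩ : N t0) : N t0 ⧸ (A t0).subgroupOf (N t0))) := fun x y e =>
    Subtype.ext (inv_mul_eq_one.1 (h.D_inf_A (mem_subgroupOf.1 (QuotientGroup.eq.1 e))
      (mul_mem (inv_mem x.2) y.2)))
  obtain ⟨d, hd⟩ := (hinj.bijective_of_nat_card_le (by rw [h.D_data.1]; rfl)).2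
    ((⟨n, hn⟩ : N t0) : N t0 ⧸ (A t0).subgroupOf (N t0))
  have e' := mem_subgroupOf.1 (QuotientGroup.eq.1 hd)
  simp only [coe_mul, coe_inv] at e'
  refine ⟨(d : G) * ((d : G)⁻¹ * n) * (d : G)⁻¹, (mem_normalizer_iff.1 (mem_D.1 d.2).1 _).1 e', d, d.2, by group⟩

/-- An element of `N` conjugating `d` into `D` lies in `D`. -/
theorem normalizer_inf_N {d n : G} (hd : d ∈ D t0 i) (hd1 : d ≠ 1) (hn : n ∈ N t0)
    (hnd : n * d * n⁻¹ ∈ D t0 i) : n ∈ D t0 i := by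
  obtain ⟨a, ha, e, he, rfl⟩ := h.exists_mul hn
  have e1 : a * e * d * (a * e)⁻¹ = a * d * a⁻¹ := by
    rw [show a * e * d * (a * e)⁻¹ = a * (e * d * e⁻¹) * a⁻¹ by group,
      show e * d * e⁻¹ = d by rw [h.D_comm he hd]; group]
  rw [e1] at hnd
  have h1 : a * d * a⁻¹ * d⁻¹ ∈ A t0 := by
    rw [show a * d * a⁻¹ * d⁻¹ = a * (d * a⁻¹ * d⁻¹) by group]
    exact mul_mem ha ((mem_normalizer_iff.1 (mem_D.1 hd).1 _).1 (inv_mem ha))
  have h2 := h.D_inf_A h1 (mul_mem hnd (inv_mem hd))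
  have ha1 : a = 1 := h.cent_inf_A hd hd1 ha (mem_cent.2 (by
    calc a * d = (a * d * a⁻¹ * d⁻¹) * (d * a) := by group
      _ = d * a := by rw [h2, one_mul]))
  rw [ha1, one_mul]; exact he

/-- Every element of `N` outside `A` is conjugate by `A` into `D`. -/
theorem cover {x : G} (hx : x ∈ N t0) (hxA : x ∉ A t0) : ∃ a ∈ A t0, a⁻¹ * x * a ∈ D t0 i := by
  classical
  let f : A t0 × {d : D t0 i // d ≠ 1} → {y : N t0 // (y : G) ∉ A t0} := fun p =>
    ⟨⟨(p.1 : G) * (p.2.1 : G) * (p.1 : G)⁻¹, mul_mem (mul_mem (A_le_N t0 p.1.2) (mem_D.1 p.2.1.2).1)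
      (inv_mem (A_le_N t0 p.1.2))⟩, fun hc => h.not_mem_A p.2.1.2 (fun e => p.2.2 (Subtype.ext e))
        (by have := mul_mem (mul_mem (inv_mem p.1.2) hc) p.1.2; simpa [mul_assoc] using this)⟩
  have hf : Function.Injective f := by
    rintro ⟨a, ⟨d, hd⟩⟩ ⟨a', ⟨d', hd'⟩⟩ e
    have e' : (a : G) * d * (a : G)⁻¹ = a' * d' * (a' : G)⁻¹ := congrArg (fun y => (y.1.1 : G)) e
    have hd1 : (d : G) ≠ 1 := fun e => hd (Subtype.ext e)
    have hb : ((a' : G)⁻¹ * a) * d * ((a' : G)⁻¹ * a)⁻¹ = d' := by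
      calc _ = (a' : G)⁻¹ * ((a : G) * d * (a : G)⁻¹) * a' := by group
        _ = _ := by rw [e']; group
    have hbD := h.normalizer_inf_N d.2 hd1 (mul_mem (inv_mem (A_le_N t0 a'.2)) (A_le_N t0 a.2))
      (hb ▸ d'.2)
    have hb1 := h.D_inf_A (mul_mem (inv_mem a'.2) a.2) hbD
    rw [hb1] at hb
    have : (a' : G) = a := inv_mul_eq_one.1 hb1
    have hdd : d = d' := Subtype.ext (by simpa using hb)
    subst hdd
    simp [Subtype.ext this]
  have hD1 : Nat.card {d : D t0 i // d ≠ 1} + 1 = (A t0).relIndex (N t0) := by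
    haveI := Fintype.ofFinite (D t0 i)
    rw [← h.D_data.1, Nat.card_eq_fintype_card (α := {d : D t0 i // d ≠ 1}), Fintype.card_subtype_compl,
      Fintype.card_subtype_eq, Nat.card_eq_fintype_card]
    have := Fintype.card_pos (α := D t0 i)
    omega
  have hN1 : Nat.card {y : N t0 // (y : G) ∉ A t0} + Nat.card (A t0) = Nat.card (N t0) := by
    rw [← Nat.card_congr (Equiv.sumCompl fun y : N t0 => (y : G) ∉ A t0), Nat.card_sum]
    congr 1
    exact Nat.card_congr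
      { toFun := fun a => ⟨⟨a, A_le_N t0 a.2⟩, not_not.2 a.2⟩
        invFun := fun y => ⟨y.1.1, not_not.1 y.2⟩
        left_inv := fun a => rfl
        right_inv := fun y => rfl }
  have hcard : Nat.card {y : N t0 // (y : G) ∉ A t0} ≤ Nat.card (A t0 × {d : D t0 i // d ≠ 1}) := by
    rw [Nat.card_prod]
    have hm : Nat.card (A t0) * (A t0).relIndex (N t0) = Nat.card (N t0) := by
      have h1 := ((A t0).subgroupOf (N t0)).card_mul_index
      rwa [Nat.card_congr (subgroupOfEquivOfLe (A_le_N t0)).toEquiv] at h1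
    rw [← hD1, mul_add, mul_one] at hm
    omega
  obtain ⟨⟨a, d⟩, he⟩ := (hf.bijective_of_nat_card_le hcard).2 ⟨⟨x, hx⟩, hxA⟩
  refine ⟨a, a.2, ?_⟩
  have : (a : G) * d.1 * (a : G)⁻¹ = x := congrArg (fun y => (y.1.1 : G)) he
  rw [← this]
  simpa [mul_assoc] using d.1.2

/-- The two-point stabilisers at `N` are conjugate under `A`. -/
theorem conj_D {j : G} (hj : orderOf j = 2) (hjN : j ∉ N t0) :
    ∃ a ∈ A t0, ∀ x, x ∈ D t0 j ↔ a⁻¹ * x * a ∈ D t0 i := by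
  have h' := h.change j hj hjN
  obtain ⟨x0, hx0, hx01⟩ := h'.exists_D
  obtain ⟨a, ha, had⟩ := h.cover (mem_D.1 hx0).1 (h'.not_mem_A hx0 hx01)
  have hd1 : a⁻¹ * x0 * a ≠ 1 := fun e => hx01 (by
    calc x0 = a * (a⁻¹ * x0 * a) * a⁻¹ := by group
      _ = 1 := by rw [e]; group)
  let f : D t0 j → D t0 i := fun x => ⟨a⁻¹ * x * a, h.cent_inf_N had hd1
    (mul_mem (mul_mem (inv_mem (A_le_N t0 ha)) (mem_D.1 x.2).1) (A_le_N t0 ha))
    (mem_cent.2 (by
      calc a⁻¹ * x * a * (a⁻¹ * x0 * a) = a⁻¹ * ((x : G) * x0) * a := by group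
        _ = a⁻¹ * x0 * a * (a⁻¹ * x * a) := by rw [h'.D_comm x.2 hx0]; group))⟩
  have hf : Function.Injective f := fun x y e => Subtype.ext (by
    have := congrArg Subtype.val e
    exact mul_left_cancel (mul_right_cancel this))
  refine ⟨a, ha, fun x => ⟨fun hx => (f ⟨x, hx⟩).2, fun hx => ?_⟩⟩
  obtain ⟨y, hy⟩ := (hf.bijective_of_nat_card_le (by rw [h.D_data.1, h'.D_data.1])).2 ⟨_, hx⟩
  have := mul_left_cancel (mul_right_cancel (congrArg Subtype.val hy))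
  exact this ▸ y.2

end Setup

end CfsgLib.PLocal.CAGroup
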