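import Mathlib
import Cfsg.Agent.Lib.PLocal.CAGroup.Complement

/-!
# The action on the cosets of `N(A)`

Owner: helper10. The two-point stabiliser `D` fixes exactly the points `N`, `iN`; `A` is regular on
the points different from `N`.
-/

set_option autoImplicit false

namespace CfsgLib.PLocal.CAGroup

open Subgroup

variable {G : Type*} [Group G] [Finite G] {t0 i : G}

omit [Finite G] in
theorem smul_eq_iff {K : Subgroup G} (x g : G) :
    x • (g : G ⧸ K) = (g : G ⧸ K) ↔ g⁻¹ * x * g ∈ K := by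
  rw [MulAction.Quotient.smul_mk, QuotientGroup.eq, ← inv_mem_iff]
  simp [mul_assoc]

namespace Setup

variable (h : Setup t0 i)
include h

theorem fixed_coset_iff {j : G} (hj : orderOf j = 2) {x : G} :
    x • (j : G ⧸ N t0) = (j : G ⧸ N t0) ↔ j * x * j⁻¹ ∈ N t0 := by
  rw [smul_eq_iff, inv_eq_self hj]

/-- A representative involution of a coset outside `N`. -/
theorem exists_rep {q : G ⧸ N t0} (hq : q ≠ ((1 : G) : G ⧸ N t0)) :
    ∃ j : G, orderOf j = 2 ∧ j ∉ N t0 ∧ (j : G ⧸ N t0) = q := by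
  obtain ⟨g, rfl⟩ := QuotientGroup.mk_surjective q
  have hg : g ∉ N t0 := fun hg => hq (QuotientGroup.eq.2 (by simpa using hg))
  obtain ⟨j, ⟨hj, hja⟩, -⟩ := existsUnique_involution h.ab h.h0 h.hN hg
  have he : (j : G ⧸ N t0) = (g : G ⧸ N t0) := QuotientGroup.eq.2 (by
    have := inv_mem (A_le_N t0 hja)
    rwa [mul_inv_rev, inv_inv] at this)
  refine ⟨j, hj, fun hjN => hq ?_, he⟩
  rw [← he]; exact QuotientGroup.eq.2 (by simpa using hjN)

/-- An involution inverting a non-trivial element of `D` lies outside `N`. -/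
theorem inverter_notMem {d j : G} (hd : d ∈ D t0 i) (hd1 : d ≠ 1) (hj : orderOf j = 2)
    (hjd : j * d * j⁻¹ = d⁻¹) : j ∉ N t0 := by
  intro hjN
  have hjA := mem_A_of_two h.ab h.h0 hjN hj
  have h1 : j * d * j⁻¹ * d⁻¹ ∈ A t0 := by
    rw [show j * d * j⁻¹ * d⁻¹ = j * (d * j⁻¹ * d⁻¹) by group]
    exact mul_mem hjA ((mem_normalizer_iff.1 (mem_D.1 hd).1 _).1 (inv_mem hjA))
  rw [hjd] at h1
  have h2 := h.D_inf_A h1 (mul_mem (inv_mem hd) (inv_mem hd))
  exact h.sq_ne hd hd1 (by rwa [mul_inv_eq_one] at h2)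

/-- The involutions inverting `d` are the elements of the coset `i C(d)`; they invert all of `D`. -/
theorem inverters {d : G} (hd : d ∈ D t0 i) (hd1 : d ≠ 1) {b : G} (hb : b ∈ centralizer ({d} : Set G)) :
    orderOf (i * b) = 2 ∧ ∀ e ∈ D t0 i, i * b * e * (i * b)⁻¹ = e⁻¹ := by
  have hid := h.D_data.2 d hd
  have hsq : i * b * (i * b) = 1 := by
    rw [show i * b * (i * b) = (i * b * i⁻¹) * (i * i * b) by group, h.cent_inverted hd hd1 hb,
      mul_self_eq_one h.hi, one_mul, inv_mul_cancel]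
  have hne : i * b ≠ 1 := fun e => by
    have hib : i = b⁻¹ := eq_inv_of_mul_eq_one_left e
    have hi' : i ∈ centralizer ({d} : Set G) := hib ▸ inv_mem hb
    rw [mem_cent.1 hi', mul_inv_cancel_right] at hid
    exact h.sq_ne hd hd1 hid.symm
  refine ⟨orderOf_eq_prime (by rw [pow_two, hsq]) hne, fun e he => ?_⟩
  have hbe : b * e * b⁻¹ = e := by
    rw [h.cent_comm hd hd1 hb (mem_cent.2 (h.D_comm he hd) : e ∈ centralizer ({d} : Set G)),
      mul_inv_cancel_right]
  calc i * b * e * (i * b)⁻¹ = i * (b * e * b⁻¹) * i⁻¹ := by group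
    _ = e⁻¹ := by rw [hbe, h.D_data.2 e he]

theorem inverter_mem_coset {d j : G} (hd : d ∈ D t0 i) (hjd : j * d * j⁻¹ = d⁻¹) :
    i⁻¹ * j ∈ centralizer ({d} : Set G) := by
  refine mem_cent.2 ?_
  have h1 : i⁻¹ * d⁻¹ * i = d := by rw [← h.D_data.2 d hd]; group
  rw [mul_inv_eq_iff_eq_mul] at hjd
  calc i⁻¹ * j * d = i⁻¹ * (d⁻¹ * j) := by rw [mul_assoc, hjd]
    _ = (i⁻¹ * d⁻¹ * i) * (i⁻¹ * j) := by group
    _ = d * (i⁻¹ * j) := by rw [h1]

/-- `D` fixes only the points `N` and `iN`. -/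
theorem fixed_eq {q : G ⧸ N t0} (hq : q ≠ ((1 : G) : G ⧸ N t0)) (hqD : ∀ x ∈ D t0 i, x • q = q) :
    q = (i : G ⧸ N t0) := by
  classical
  obtain ⟨d, hd, hd1⟩ := h.exists_D
  set B := centralizer ({d} : Set G) with hB
  let J := {j : G // orderOf j = 2 ∧ j * d * j⁻¹ = d⁻¹}
  let F := {r : G ⧸ N t0 // r ≠ ((1 : G) : G ⧸ N t0) ∧ ∀ x ∈ D t0 i, x • r = r}
  -- `J` is a coset of `B`
  have hJB : Nat.card J = Nat.card B :=
    Nat.card_congr
      { toFun := fun j => ⟨i⁻¹ * j.1, h.inverter_mem_coset hd j.2.2⟩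
        invFun := fun b => ⟨i * b, (h.inverters hd hd1 b.2).1, (h.inverters hd hd1 b.2).2 d hd⟩
        left_inv := fun j => Subtype.ext (mul_inv_cancel_left i j.1)
        right_inv := fun b => Subtype.ext (inv_mul_cancel_left i (b : G)) }
  -- `J` lies over the fixed points
  have hJfix : ∀ j : J, (j.1 : G ⧸ N t0) ≠ ((1 : G) : G ⧸ N t0) ∧
      ∀ x ∈ D t0 i, x • (j.1 : G ⧸ N t0) = (j.1 : G ⧸ N t0) := fun j => by
    refine ⟨fun e => h.inverter_notMem hd hd1 j.2.1 j.2.2 (by simpa using QuotientGroup.eq.1 e.symm), fun x hx => ?_⟩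
    rw [h.fixed_coset_iff j.2.1, show j.1 = i * (i⁻¹ * j.1) by group,
      (h.inverters hd hd1 (h.inverter_mem_coset hd j.2.2)).2 x hx]
    exact inv_mem (mem_D.1 hx).1
  have hfib : ∀ r : F, Nat.card {j : J // (j.1 : G ⧸ N t0) = r.1} = (A t0).relIndex (N t0) := by
    intro r
    obtain ⟨g, hg, hgN, hgr⟩ := h.exists_rep r.2.1
    rw [← h.card_coset hgN]
    refine Nat.card_congr
      { toFun := fun j => ⟨j.1.1, j.1.2.1, QuotientGroup.eq.1 (hgr.trans j.2.symm)⟩
        invFun := fun x => ⟨⟨x.1, x.2.1, ?_⟩, (QuotientGroup.eq.2 x.2.2).symm.trans hgr⟩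
        left_inv := fun j => rfl
        right_inv := fun x => rfl }
    have hxN : x.1 ∉ N t0 := fun hx => hgN (by simpa using mul_mem hx (inv_mem x.2.2))
    have h' := h.change x.1 x.2.1 hxN
    have hxr : (x.1 : G ⧸ N t0) = r.1 := (QuotientGroup.eq.2 x.2.2).symm.trans hgr
    have hdx : d ∈ D t0 x.1 := mem_D.2 ⟨(mem_D.1 hd).1,
      (h.fixed_coset_iff x.2.1).1 (hxr ▸ r.2.2 d hd)⟩
    exact h'.D_data.2 d hdx
  have hJF : Nat.card J = Nat.card F * (A t0).relIndex (N t0) := by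
    have := Fintype.ofFinite F
    rw [← Nat.card_congr (Equiv.sigmaFiberEquiv fun j : J => (⟨(j.1 : G ⧸ N t0), hJfix j⟩ : F)),
      Nat.card_sigma, Finset.sum_congr rfl (fun r _ => (Nat.card_congr (Equiv.subtypeEquivRight
        fun j => Subtype.ext_iff)).trans (hfib r)), Finset.sum_const, Finset.card_univ, smul_eq_mul,
      Nat.card_eq_fintype_card]
  -- the normaliser of `D`
  set K := normalizer (D t0 i : Set G) with hK
  have hiB : i ∉ B := fun e => by
    have := h.D_data.2 d hd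
    rw [mem_cent.1 e, mul_inv_cancel_right] at this
    exact h.sq_ne hd hd1 this.symm
  have hBK : B ≤ K := fun b hb => mem_normalizer_iff.2 fun y => by
    constructor <;> intro hy
    · rwa [h.cent_comm hd hd1 hb (mem_cent.2 (h.D_comm hy hd) : y ∈ centralizer ({d} : Set G)), mul_inv_cancel_right]
    · have e : b * y * b⁻¹ ∈ B := mem_cent.2 (h.D_comm hy hd)
      have hyB : y ∈ B := by simpa [mul_assoc] using mul_mem (mul_mem (inv_mem hb) e) hb
      rwa [h.cent_comm hd hd1 hb hyB, mul_inv_cancel_right] at hy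
  have hiK : i ∈ K := mem_normalizer_iff.2 fun y => by
    constructor <;> intro hy
    · rw [h.D_data.2 y hy]; exact inv_mem hy
    · have := h.D_data.2 _ hy
      rw [inv_eq_self h.hi] at hy this
      have e : i * (i * y * i) * i = y := by
        calc i * (i * y * i) * i = (i * i) * y * (i * i) := by group
          _ = y := by rw [mul_self_eq_one h.hi, one_mul, mul_one]
      rw [e] at this
      rw [this]; exact inv_mem hy
  have h2B : 2 * Nat.card B ≤ Nat.card K := by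
    rw [two_mul, ← Nat.card_sum]
    refine Nat.card_le_card_of_injective
      (Sum.elim (fun b : B => (⟨b, hBK b.2⟩ : K)) (fun b : B => ⟨i * b, mul_mem hiK (hBK b.2)⟩))
      (Function.Injective.sumElim (fun b c e => Subtype.ext (congrArg (fun y : K => (y : G)) e))
        (fun b c e => Subtype.ext (mul_left_cancel (congrArg (fun y : K => (y : G)) e))) fun b c e => hiB ?_)
    have e' : (b : G) = i * c := congrArg Subtype.val e
    simpa [e'] using mul_mem b.2 (inv_mem c.2)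
  have hKF : (D t0 i).relIndex K ≤ Nat.card F + 1 := by
    rw [Subgroup.relIndex, Subgroup.index, ← Finite.card_option]
    let π : G ⧸ N t0 → Option F := fun r =>
      if hr : r ≠ ((1 : G) : G ⧸ N t0) ∧ ∀ x ∈ D t0 i, x • r = r then some ⟨r, hr⟩ else none
    have hfix : ∀ k : K, ∀ x ∈ D t0 i, x • ((k : G) : G ⧸ N t0) = ((k : G) : G ⧸ N t0) := fun k x hx => by
      rw [smul_eq_iff]
      exact (mem_D.1 ((mem_normalizer_iff''.1 k.2 x).1 hx)).1
    refine Nat.card_le_card_of_injective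
      (fun q : K ⧸ (D t0 i).subgroupOf K => π ((q.out : G) : G ⧸ N t0)) fun q q' e => ?_
    have e' : ((q.out : G) : G ⧸ N t0) = ((q'.out : G) : G ⧸ N t0) := by
      simp only [π] at e
      split_ifs at e with e1 e2 e2
      · exact congrArg Subtype.val (Option.some.inj e)
      · exact (not_not.1 fun n => e1 ⟨n, hfix q.out⟩).trans (not_not.1 fun n => e2 ⟨n, hfix q'.out⟩).symm
    rw [← q.out_eq', ← q'.out_eq', QuotientGroup.eq, mem_subgroupOf]
    refine h.normalizer_inf_N hd hd1 ?_ ?_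
    · simpa using QuotientGroup.eq.1 e'
    · exact (mem_normalizer_iff.1 (mul_mem (inv_mem q.out.2) q'.out.2) d).1 hd
  have hKcard : Nat.card K = (A t0).relIndex (N t0) * (D t0 i).relIndex K := by
    have hDK : D t0 i ≤ K := le_normalizer
    have h1 := ((D t0 i).subgroupOf K).card_mul_index
    rw [Nat.card_congr (subgroupOfEquivOfLe hDK).toEquiv, h.D_data.1] at h1
    exact h1.symm
  have hF1 : Nat.card F ≤ 1 := by
    rw [← hJB, hJF, hKcard] at h2B
    have h3 : 2 * Nat.card F * (A t0).relIndex (N t0) ≤ (Nat.card F + 1) * (A t0).relIndex (N t0) := by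
      calc _ = 2 * (Nat.card F * (A t0).relIndex (N t0)) := by ring
        _ ≤ _ := h2B
        _ ≤ (A t0).relIndex (N t0) * (Nat.card F + 1) := Nat.mul_le_mul_left _ hKF
        _ = _ := by ring
    have := Nat.le_of_mul_le_mul_right h3 (by have := h.h3; omega)
    omega
  have hiF : ((i : G ⧸ N t0) ≠ ((1 : G) : G ⧸ N t0)) ∧ ∀ x ∈ D t0 i, x • (i : G ⧸ N t0) = (i : G ⧸ N t0) :=
    hJfix ⟨i, h.hi, h.D_data.2 d hd⟩
  have : Subsingleton F := Finite.card_le_one_iff_subsingleton.1 hF1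
  exact congrArg Subtype.val (Subsingleton.elim (⟨q, hq, hqD⟩ : F) ⟨_, hiF⟩)

/-- `A` is transitive on the points different from `N`. -/
theorem exists_A {q : G ⧸ N t0} (hq : q ≠ ((1 : G) : G ⧸ N t0)) :
    ∃ a ∈ A t0, a • (i : G ⧸ N t0) = q := by
  obtain ⟨j, hj, hjN, rfl⟩ := h.exists_rep hq
  obtain ⟨a, ha, haD⟩ := h.conj_D hj hjN
  refine ⟨a, ha, ?_⟩
  have he : a⁻¹ • (j : G ⧸ N t0) = (i : G ⧸ N t0) := by
    refine h.fixed_eq (fun e => hq ?_) fun x hx => ?_
    · rw [inv_smul_eq_iff, MulAction.Quotient.smul_mk] at e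
      rw [e]; exact QuotientGroup.eq.2 (by simpa using A_le_N t0 ha)
    · have hxj : a * x * a⁻¹ ∈ D t0 j := (haD _).2 (by simpa [mul_assoc] using hx)
      have hf : (a * x * a⁻¹) • (j : G ⧸ N t0) = (j : G ⧸ N t0) :=
        (h.fixed_coset_iff hj).2 (mem_D.1 hxj).2
      rw [eq_inv_smul_iff, smul_smul, smul_smul]
      exact hf
  rw [← he, smul_inv_smul]

theorem free_A {a : G} (ha : a ∈ A t0) {q : G ⧸ N t0} (hq : q ≠ ((1 : G) : G ⧸ N t0))
    (hfix : a • q = q) : a = 1 := by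
  obtain ⟨j, hj, hjN, rfl⟩ := h.exists_rep hq
  exact (h.change j hj hjN).D_inf_A ha (mem_D.2 ⟨A_le_N t0 ha, (h.fixed_coset_iff hj).1 hfix⟩)

/-- A non-trivial element of `N` fixes at most one point other than `N`. -/
theorem fix_unique {x : G} (hx : x ∈ N t0) (hx1 : x ≠ 1) {p q : G ⧸ N t0}
    (hp : p ≠ ((1 : G) : G ⧸ N t0)) (hq : q ≠ ((1 : G) : G ⧸ N t0))
    (hxp : x • p = p) (hxq : x • q = q) : p = q := by
  obtain ⟨j, hj, hjN, rfl⟩ := h.exists_rep hp
  obtain ⟨k, hk, hkN, rfl⟩ := h.exists_rep hq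
  have hj' := h.change j hj hjN
  have hk' := h.change k hk hkN
  have hxj : x ∈ D t0 j := mem_D.2 ⟨hx, (h.fixed_coset_iff hj).1 hxp⟩
  have hxk : x ∈ D t0 k := mem_D.2 ⟨hx, (h.fixed_coset_iff hk).1 hxq⟩
  refine (hj'.fixed_eq hq fun y hy => ?_).symm
  rw [h.fixed_coset_iff hk]
  exact (mem_D.1 (hk'.cent_inf_N hxk hx1 (mem_D.1 hy).1 (mem_cent.2 (hj'.D_comm hy hxj)))).2

end Setup

end CfsgLib.PLocal.CAGroup
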