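import Mathlib
import Cfsg.Agent.Lib.PLocal.CAGroup.Doubly
import Cfsg.Agent.Lib.Perm.ZassenhausAbelianBound
import Cfsg.Agent.Lib.Perm.ZassenhausAbelianSimple
import Cfsg.Agent.Lib.Perm.ElemCentRecog
import Cfsg.Agent.Lib.Perm.ZassenhausNormal

/-!
# Simple groups of even order with abelian centralisers are `PSL(2, 2^f)`

Owner: helper10.
-/

set_option autoImplicit false

universe u

namespace CfsgLib.PLocal.CAGroup

open Subgroup

/-- In a simple non-abelian group an involution with abelian centraliser has at least two conjugates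
in its centraliser. -/
theorem two_le_relIndex {G : Type*} [Group G] [Finite G] [IsSimpleGroup G] {t0 : G} (hA : AbInv G)
    (hG : ¬ IsMulCommutative G) (h0 : orderOf t0 = 2) (hN : N t0 ≠ ⊤) :
    2 ≤ (A t0).relIndex (N t0) := by
  haveI : Fact (Nat.Prime 2) := ⟨Nat.prime_two⟩
  by_contra hlt
  have hpos : (A t0).relIndex (N t0) ≠ 0 := by
    rw [Subgroup.relIndex]; exact FiniteIndex.index_ne_zero
  have hNA : N t0 ≤ A t0 := relIndex_eq_one.1 (by omega)
  obtain ⟨S, hS⟩ := exists_sylow_le hA h0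
  have ht0S : t0 ∈ (S : Subgroup G) := by
    have hp : IsPGroup 2 ↥(zpowers t0) := IsPGroup.of_card (n := 1) (by rw [Nat.card_zpowers, h0, pow_one])
    have hnorm : zpowers t0 ≤ normalizer ((S : Subgroup G) : Set G) := (zpowers_le).2
      (mem_normalizer_iff.2 fun y => by
        constructor <;> intro hy
        · rwa [← mem_cent.1 (hS hy), mul_inv_cancel_right]
        · have hy' := mem_cent.1 (hS hy)
          have hy'' : t0 * y * t0⁻¹ = y := by
            have : t0 * (t0 * y * t0⁻¹) * t0⁻¹ = t0 * y * t0⁻¹ := by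
              rw [← hy', mul_inv_cancel_right]
            exact mul_left_cancel (mul_right_cancel this)
          rwa [hy''] at hy)
    exact (S.3 (IsPGroup.to_sup_of_normal_right' hp S.2 hnorm) le_sup_right).le
      (le_sup_left (α := Subgroup G) (mem_zpowers t0))
  have hle : normalizer ((S : Subgroup G) : Set G) ≤ centralizer ((S : Subgroup G) : Set G) := by
    intro g hg
    have hgA : g ∈ A t0 :=
      hNA (mem_N hA h0 h0 (t0_mem t0) (hS ((mem_normalizer_iff.1 hg t0).1 ht0S)))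
    exact mem_centralizer_iff.2 fun y hy => hA.comm h0 (hS hy) hgA
  have hc := MonoidHom.ker_transferSylow_isComplement' S hle
  have hne : (S : Subgroup G) ≠ ⊥ := fun e => by
    rw [e, mem_bot] at ht0S
    rw [ht0S, orderOf_one] at h0; omega
  rcases (MonoidHom.normal_ker (MonoidHom.transferSylow S hle)).eq_bot_or_eq_top with e | e
  · rw [e, isComplement'_bot_left] at hc
    exact hG ⟨⟨fun x y => hA.comm h0 (hS (hc ▸ mem_top x)) (hS (hc ▸ mem_top y))⟩⟩
  · rw [e, isComplement'_top_left] at hc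
    exact hne hc

variable {G : Type u} [Group G] [Finite G] {t0 i : G}

namespace Setup

/-- No non-trivial normal subgroup meets `N` trivially. -/
theorem normal_meets (h : Setup t0 i) {M : Subgroup G} (hM : M.Normal)
    (hMN : ∀ m ∈ M, m ∈ N t0 → m = 1) : M = ⊥ := by
  have hno2 : ∀ m ∈ M, orderOf m ≠ 2 := by
    intro m hm hm2
    obtain ⟨g, hg⟩ := exists_conj h.ab h.h0 h.hN hm2
    have ht : t0 ∈ M := by
      have := hM.conj_mem m hm g⁻¹
      rwa [← hg, show g⁻¹ * (g * t0 * g⁻¹) * g⁻¹⁻¹ = t0 by group] at this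
    have h0 := h.h0
    rw [hMN t0 ht (A_le_N t0 (t0_mem t0)), orderOf_one] at h0
    omega
  have hinv : ∀ v ∈ A t0, orderOf v = 2 → ∀ m ∈ M, v * m * v⁻¹ = m⁻¹ := fun v hv hv2 =>
    inverted_of_fpf hv2 M (fun m hm => hM.conj_mem m hm v) fun m hm he => hMN m hm (A_le_N t0 (by
      rw [mul_inv_eq_iff_eq_mul] at he
      rw [← (show centralizer ({v} : Set G) = A t0 from cent_eq h.ab hv2 h.h0 (mem_cent.1 hv))]
      exact mem_cent.2 he.symm))
  obtain ⟨s, hs, hsne⟩ : ∃ s : G, (orderOf s = 2 ∧ s ∈ A t0) ∧ s ≠ t0 := by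
    by_contra hall
    push Not at hall
    haveI : Subsingleton {x : G // orderOf x = 2 ∧ x ∈ N t0} := ⟨fun x y => Subtype.ext
      ((hall _ ⟨x.2.1, mem_A_of_two h.ab h.h0 x.2.2 x.2.1⟩).trans
        (hall _ ⟨y.2.1, mem_A_of_two h.ab h.h0 y.2.2 y.2.1⟩).symm)⟩
    have := Finite.card_le_one_iff_subsingleton.2 (inferInstance : Subsingleton {x : G // orderOf x = 2 ∧ x ∈ N t0})
    rw [card_involutions_N h.ab h.h0 h.hN] at this
    have := h.h3
    omega
  have hts : orderOf (t0 * s) = 2 := by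
    refine orderOf_eq_prime ?_ fun e => hsne (inv_mul_eq_one.1 (by rwa [inv_eq_self h.h0])).symm
    rw [pow_two, show t0 * s * (t0 * s) = t0 * (s * t0) * s by group, mem_cent.1 hs.2, ← mul_assoc,
      mul_self_eq_one h.h0, one_mul, mul_self_eq_one hs.1]
  rw [eq_bot_iff_forall]
  intro m hm
  have e3 := hinv (t0 * s) (mul_mem (t0_mem t0) hs.2) hts m hm
  rw [show t0 * s * m * (t0 * s)⁻¹ = t0 * (s * m * s⁻¹) * t0⁻¹ by group, hinv s hs.2 hs.1 m hm,
    show t0 * m⁻¹ * t0⁻¹ = (t0 * m * t0⁻¹)⁻¹ by group, hinv t0 (t0_mem t0) h.h0 m hm, inv_inv] at e3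
  by_contra hm1
  exact hno2 m hm (orderOf_eq_prime (by rw [pow_two]; nth_rw 1 [e3]; exact inv_mul_cancel m) hm1)

theorem isZassenhaus (h : Setup t0 i) : Cfsg.IsZassenhausGroup G (G ⧸ N t0) := by
  classical
  set o : G ⧸ N t0 := ((1 : G) : G ⧸ N t0) with ho
  set p : G ⧸ N t0 := (i : G ⧸ N t0) with hp
  have hpo : p ≠ o := fun e => h.hiN (by simpa using QuotientGroup.eq.1 e.symm)
  have hmove : ∀ a : G ⧸ N t0, ∃ g : G, g • a = o := fun a => by
    obtain ⟨g, rfl⟩ := QuotientGroup.mk_surjective a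
    exact ⟨g⁻¹, by rw [MulAction.Quotient.smul_mk, smul_eq_mul, inv_mul_cancel]⟩
  have hpre : ∀ a b : G ⧸ N t0, a ≠ b → ∃ g : G, g • a = o ∧ g • b = p := fun a b hab => by
    obtain ⟨g, hg⟩ := hmove a
    obtain ⟨c, hc, hcp⟩ := h.exists_A (q := g • b) (fun e => hab (MulAction.injective g (hg.trans e.symm)))
    refine ⟨c⁻¹ * g, ?_, ?_⟩
    · rw [mul_smul, hg, inv_smul_eq_iff, ho, MulAction.Quotient.smul_mk]
      exact QuotientGroup.eq.2 (by simpa using A_le_N t0 hc)
    · rw [mul_smul, inv_smul_eq_iff]; exact hcp.symm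
  have hthree : ∀ g : G, ∀ a b c : G ⧸ N t0, a ≠ b → b ≠ c → a ≠ c →
      g • a = a → g • b = b → g • c = c → g = 1 := by
    intro g a b c hab hbc hac ha hb hc
    by_contra hg
    obtain ⟨k, hk⟩ := hmove a
    have hfix : ∀ q : G ⧸ N t0, g • q = q → (k * g * k⁻¹) • (k • q) = k • q := fun q hq => by
      rw [smul_smul, inv_mul_cancel_right, mul_smul, hq]
    have hxN : k * g * k⁻¹ ∈ N t0 := by
      have := hfix a ha
      rw [hk, ho, smul_eq_iff, inv_one, one_mul, mul_one] at this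
      exact this
    exact hbc (MulAction.injective k (h.fix_unique hxN (fun e => hg (conj_eq_one_iff.1 e))
      (fun e => hab (MulAction.injective k (hk.trans e.symm)))
      (fun e => hac (MulAction.injective k (hk.trans e.symm))) (hfix b hb) (hfix c hc)))
  refine ⟨⟨fun {g g'} hgg => ?_⟩, ?_, hthree, ?_, ?_⟩
  · -- faithful
    rw [← inv_mul_eq_one]
    obtain ⟨a, ha, ha1⟩ : ∃ a ∈ A t0, a ≠ 1 := ⟨t0, t0_mem t0, fun e => by
      have := h.h0; rw [e, orderOf_one] at this; omega⟩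
    refine hthree _ o p (a • p) hpo.symm (fun e => ha1 (h.free_A ha hpo e.symm)) (fun e => hpo ?_)
      (by rw [mul_smul, ← hgg, inv_smul_smul]) (by rw [mul_smul, ← hgg, inv_smul_smul])
      (by rw [mul_smul, ← hgg, inv_smul_smul])
    have : a • o = o := by
      rw [ho, MulAction.Quotient.smul_mk]; exact QuotientGroup.eq.2 (by simpa using A_le_N t0 ha)
    exact MulAction.injective a (e.symm.trans this.symm)
  · rw [MulAction.is_two_pretransitive_iff]
    intro a b c d hab hcd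
    obtain ⟨g, hga, hgb⟩ := hpre a b hab
    obtain ⟨g', hga', hgb'⟩ := hpre c d hcd
    exact ⟨g'⁻¹ * g, by rw [mul_smul, hga, ← hga', inv_smul_smul],
      by rw [mul_smul, hgb, ← hgb', inv_smul_smul]⟩
  · obtain ⟨d, hd, hd1⟩ := h.exists_D
    refine ⟨d, hd1, o, p, hpo.symm, ?_, ?_⟩
    · rw [ho, smul_eq_iff]; simpa using (mem_D.1 hd).1
    · rw [hp, h.fixed_coset_iff h.hi]; exact (mem_D.1 hd).2
  · intro M hMn hMt
    refine ⟨o, fun e => ?_⟩
    have hbot : M = ⊥ := h.normal_meets hMn fun m hm hmN => congrArg Subtype.val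
      ((Subgroup.eq_bot_iff_forall _).1 e ⟨m, hm⟩ (by
        show m • o = o
        rw [ho, smul_eq_iff]; simpa using hmN))
    obtain ⟨⟨m, hm'⟩, hm⟩ := hMt.exists_smul_eq o p
    rw [Subgroup.smul_def] at hm
    rw [hbot, mem_bot] at hm'
    exact hpo (by simpa [hm'] using hm.symm)

theorem card_points (h : Setup t0 i) : Nat.card (A t0) + 1 = Nat.card (G ⧸ N t0) := by
  classical
  rw [← Finite.card_option]
  refine Nat.card_eq_of_bijective
    (fun a : Option (A t0) => a.elim ((1 : G) : G ⧸ N t0) fun a => (a : G) • (i : G ⧸ N t0))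
    ⟨?_, fun q => ?_⟩
  · have hne : ∀ a : A t0, (a : G) • (i : G ⧸ N t0) ≠ ((1 : G) : G ⧸ N t0) := fun a e => h.hiN (by
      rw [MulAction.Quotient.smul_mk, eq_comm, QuotientGroup.eq] at e
      have := mul_mem (inv_mem (A_le_N t0 a.2)) e
      simpa using this)
    rintro (_ | a) (_ | b) e
    · rfl
    · exact absurd e.symm (hne b)
    · exact absurd e (hne a)
    · refine congrArg some (Subtype.ext ?_)
      have e' : (a : G) • (i : G ⧸ N t0) = (b : G) • (i : G ⧸ N t0) := e
      rw [← inv_smul_eq_iff, smul_smul] at e'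
      refine (inv_mul_eq_one.1 (h.free_A (mul_mem (inv_mem b.2) a.2) (fun e'' => ?_) e')).symm
      exact h.hiN (by simpa using QuotientGroup.eq.1 e''.symm)
  · by_cases hq : q = ((1 : G) : G ⧸ N t0)
    · exact ⟨none, hq.symm⟩
    · obtain ⟨a, ha, hap⟩ := h.exists_A hq
      exact ⟨some ⟨a, ha⟩, hap⟩

/-- `G` is simple. -/
theorem isSimple (h : Setup t0 i) : IsSimpleGroup G := by
  classical
  haveI := Fintype.ofFinite (G ⧸ N t0)
  refine CfsgLib.Perm.zass_odd_degree_simple h.isZassenhaus ?_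
  rw [← Nat.card_eq_fintype_card, ← h.card_points]
  have : 2 ∣ Nat.card (A t0) := by
    rw [← h.h0]; exact Subgroup.orderOf_dvd_natCard _ (t0_mem t0)
  exact (even_iff_two_dvd.2 this).add_one

/-- `|A| = n₀ + 1`, where `n₀` is the number of involutions of `A`. -/
theorem card_A (h : Setup t0 i) : Nat.card (A t0) = (A t0).relIndex (N t0) + 1 := by
  classical
  haveI := h.isSimple
  haveI := Fintype.ofFinite G
  haveI := Fintype.ofFinite (G ⧸ N t0)
  set o : G ⧸ N t0 := ((1 : G) : G ⧸ N t0) with ho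
  set p : G ⧸ N t0 := (i : G ⧸ N t0) with hp
  have hpo : o ≠ p := fun e => h.hiN (by simpa using QuotientGroup.eq.1 e)
  have hZ := h.isZassenhaus
  have hstab : (MulAction.stabilizer G o ⊓ MulAction.stabilizer G p : Subgroup G) = D t0 i := by
    ext x
    rw [mem_inf, MulAction.mem_stabilizer_iff, MulAction.mem_stabilizer_iff, hp,
      h.fixed_coset_iff h.hi, ho, smul_eq_iff, inv_one, one_mul, mul_one, mem_D]
  have hodd : ¬ 2 ∣ (A t0).relIndex (N t0) := fun hd =>
    odd_index h.ab h.h0 (hd.trans (relIndex_dvd_index_of_le (A_le_N t0)))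
  have hcardΩ : Fintype.card (G ⧸ N t0) = Nat.card (A t0) + 1 := by
    rw [h.card_points, Nat.card_eq_fintype_card]
  have hAa : A t0 ≤ MulAction.stabilizer G o := fun x hx => by
    rw [MulAction.mem_stabilizer_iff, ho, smul_eq_iff]; simpa using A_le_N t0 hx
  have hfix : ∀ u ∈ A t0, u ≠ 1 → ∀ c : G ⧸ N t0, u • c = c → c = o := fun u hu hu1 c hc => by
    by_contra hco; exact hu1 (h.free_A hu hco hc)
  have hb := CfsgLib.Perm.zass_abelian_kernel_bound hZ hpo
    (by rw [hstab, h.D_data.1]; exact Nat.not_even_iff_odd.1 (fun e => hodd (even_iff_two_dvd.1 e)))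
    hAa hcardΩ.symm hfix (fun x hx y hy => h.ab.comm h.h0 hx hy)
  have hd := CfsgLib.Perm.zass_card_two_stab_dvd hZ hpo
  rw [hstab, h.D_data.1, hcardΩ] at hd hb
  have hA2 : 2 ∣ Nat.card (A t0) := by
    rw [← h.h0]; exact Subgroup.orderOf_dvd_natCard _ (t0_mem t0)
  obtain ⟨m, hm⟩ := hd
  have h3 := h.h3
  have hm2 : m ≤ 2 := by
    by_contra hm3
    have : 3 * (A t0).relIndex (N t0) ≤ m * (A t0).relIndex (N t0) := Nat.mul_le_mul_right _ (by omega)
    rw [mul_comm m] at this
    omega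
  have hApos := Nat.card_pos (α := A t0)
  obtain ⟨k, hk⟩ := hA2
  interval_cases m <;> omega

theorem sq_eq_one (h : Setup t0 i) {x : G} (hx : x ∈ A t0) : x ^ 2 = 1 := by
  classical
  let f : {y : G // orderOf y = 2 ∧ y ∈ N t0} → {y : A t0 // y ≠ 1} := fun y =>
    ⟨⟨y.1, mem_A_of_two h.ab h.h0 y.2.2 y.2.1⟩, fun e => by
      have e' : y.1 = 1 := congrArg Subtype.val e
      have := y.2.1
      rw [e', orderOf_one] at this
      omega⟩
  have hf : Function.Injective f := fun a b e => Subtype.ext (congrArg (fun y => (y.1 : G)) e)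
  have hc : Nat.card {y : A t0 // y ≠ 1} = (A t0).relIndex (N t0) := by
    haveI := Fintype.ofFinite (A t0)
    rw [Nat.card_eq_fintype_card, Fintype.card_subtype_compl, Fintype.card_subtype_eq,
      ← Nat.card_eq_fintype_card, h.card_A, Nat.add_sub_cancel]
  by_cases hx1 : x = 1
  · rw [hx1, one_pow]
  · obtain ⟨y, hy⟩ := (hf.bijective_of_nat_card_le
      (by rw [hc, card_involutions_N h.ab h.h0 h.hN])).2 ⟨⟨x, hx⟩, fun e => hx1 (congrArg Subtype.val e)⟩
    have : y.1 = x := congrArg (fun y => (y.1 : G)) hy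
    have h2 := pow_orderOf_eq_one y.1
    rw [y.2.1] at h2
    rwa [← this]

end Setup

/-- Under the hypotheses of `Setup`, `G` is `PSL(2, 2^f)`, `f ≥ 2`. -/
theorem Setup.iso_psl (h : Setup t0 i) :
    ∃ (F : Type) (_ : Field F) (_ : Fintype F) (f : ℕ), 2 ≤ f ∧ Fintype.card F = 2 ^ f ∧
      Nonempty (G ≃* Matrix.ProjectiveSpecialLinearGroup (Fin 2) F) := by
  haveI : Fact (Nat.Prime 2) := ⟨Nat.prime_two⟩
  haveI := h.isSimple
  have hA := h.ab
  have h0 := h.h0
  have hN := h.hN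
  have hG : ¬ IsMulCommutative G := fun hc => h.hiN (A_le_N t0 (mem_cent.2 (hc.is_comm.comm i t0)))
  have hp2 : IsPGroup 2 (A t0) := fun x => ⟨1, Subtype.ext (by simpa using h.sq_eq_one x.2)⟩
  obtain ⟨k, hk⟩ := IsPGroup.iff_card.1 hp2
  have hk2 : 2 ≤ k := by
    by_contra hlt
    have h3 := h.h3
    have hc := h.card_A
    have : 2 ^ k ≤ 2 ^ 1 := Nat.pow_le_pow_right two_pos (by omega)
    omega
  have hexp : ∀ t : G, orderOf t = 2 → ∃ g, g * t0 * g⁻¹ = t := fun t ht => exists_conj hA h0 hN ht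
  have hC : ∀ t : G, orderOf t = 2 → Nat.card (centralizer ({t} : Set G)) = 2 ^ k := by
    intro t ht
    obtain ⟨g, rfl⟩ := hexp t ht
    rw [← hk]
    let e : A t0 ≃ centralizer ({g * t0 * g⁻¹} : Set G) :=
      { toFun := fun x => ⟨g * x.1 * g⁻¹, (conj_mem_cent g).2 x.2⟩
        invFun := fun x => ⟨g⁻¹ * x.1 * g, (conj_mem_cent g).1 (by
          rw [show g * (g⁻¹ * x.1 * g) * g⁻¹ = x.1 by group]; exact x.2)⟩
        left_inv := fun x => Subtype.ext (by simp [mul_assoc])
        right_inv := fun x => Subtype.ext (by simp [mul_assoc]) }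
    exact (Nat.card_congr e).symm
  have h4 : ∀ g : G, orderOf g ≠ 4 := by
    intro g hg
    have ht : orderOf (g ^ 2) = 2 := by rw [orderOf_pow_of_dvd two_ne_zero (hg ▸ by norm_num), hg]
    obtain ⟨c, hc⟩ := hexp _ ht
    have hgA : c⁻¹ * g * c ∈ A t0 := (conj_mem_cent c).1 (by
      rw [show c * (c⁻¹ * g * c) * c⁻¹ = g by group, hc]
      exact mem_cent.2 (Commute.self_pow g 2).eq)
    have h' := h.sq_eq_one hgA
    have e : c⁻¹ * g * c = MulAut.conj c⁻¹ g := by simp
    rw [e, ← map_pow] at h'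
    have : g ^ 2 = 1 := (map_eq_one_iff _ (MulAut.conj c⁻¹).injective).1 h'
    rw [this, orderOf_one] at ht
    omega
  have hm := odd_index hA h0
  have hcard : Nat.card G = 2 ^ k * (A t0).index := by rw [← hk, card_mul_index]
  let F := GaloisField 2 k
  haveI := Fintype.ofFinite F
  have hF : Fintype.card F = 2 ^ k := by
    rw [← Nat.card_eq_fintype_card, GaloisField.card 2 k (by omega)]
  exact ⟨F, inferInstance, inferInstance, k, hk2, hF,
    CfsgLib.Perm.nonempty_iso_psl_of_no_four hG hk2 hcard hm hC h4 hF⟩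

/-- A simple group of even order with abelian centralisers is `PSL(2, 2^f)`, `f ≥ 2`. -/
theorem iso_psl [IsSimpleGroup G] (hCA : AbCent G) (hG : ¬ IsMulCommutative G) (heven : 2 ∣ Nat.card G) :
    ∃ (F : Type) (_ : Field F) (_ : Fintype F) (f : ℕ), 2 ≤ f ∧ Fintype.card F = 2 ^ f ∧
      Nonempty (G ≃* Matrix.ProjectiveSpecialLinearGroup (Fin 2) F) := by
  haveI : Fact (Nat.Prime 2) := ⟨Nat.prime_two⟩
  obtain ⟨t0, h0⟩ := exists_prime_orderOf_dvd_card' 2 heven
  have hA := hCA.abInv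
  have hN : N t0 ≠ ⊤ := fun e => by
    haveI : (A t0).Normal := normalizer_eq_top_iff.1 e
    rcases (inferInstance : (A t0).Normal).eq_bot_or_eq_top with e' | e'
    · have := t0_mem t0
      rw [e', mem_bot] at this
      rw [this, orderOf_one] at h0; omega
    · exact hG ⟨⟨fun x y => hA.comm h0 (show x ∈ A t0 by rw [e']; exact mem_top x)
        (show y ∈ A t0 by rw [e']; exact mem_top y)⟩⟩
  obtain ⟨i, hi, hiN⟩ := exists_outside hA h0 hN
  exact (hCA.setup h0 hN hi hiN (two_le_relIndex hA hG h0 hN)).iso_psl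

end CfsgLib.PLocal.CAGroup
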