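import Mathlib
import Cfsg.Agent.Lib.PLocal.CAGroup.Classify
import Cfsg.Agent.Lib.Recog.PrimeGraph
import Cfsg.Agent.Lib.Classical.Dickson.PSL

/-!
# Centralisers of elements of `A` in groups with abelian involution centralisers

Owner: helper10. If `a ∈ A = C(t₀)` has `C(a) ⊄ N(A)` and `C(a) ≠ G` is a central extension of
`PSL(2, 2^f)`, then the involutions of a coset of `C(a)` outside it give too many elements in an odd
subgroup of `PSL(2, 2^f)`.
-/

set_option autoImplicit false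

universe u

namespace CfsgLib.PLocal.CAGroup

open Subgroup

/-- `AbInv`, and two commuting involutions and two non-commuting ones. -/
def Good (G : Type*) [Group G] : Prop :=
  AbInv G ∧ ∃ t0 s t : G, orderOf t0 = 2 ∧ orderOf s = 2 ∧ orderOf t = 2 ∧
    s ≠ t0 ∧ t0 * s = s * t0 ∧ t0 * t ≠ t * t0

/-- `G` modulo its centre is `PSL(2, 2^f)`, `f ≥ 2`. -/
def QuotPSL (G : Type*) [Group G] : Prop :=
  ∃ (F : Type) (_ : Field F) (_ : Fintype F), CharP F 2 ∧ 4 ≤ Fintype.card F ∧
    ∃ π : G →* Matrix.ProjectiveSpecialLinearGroup (Fin 2) F,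
      Function.Surjective π ∧ π.ker = center G

variable {G : Type u} [Group G]

theorem AbInv.subgroup (h : AbInv G) (K : Subgroup G) : AbInv K := fun t ht =>
  ⟨⟨fun a b => Subtype.ext (Subtype.ext (h.comm (t := (t : G)) (by rwa [orderOf_coe])
    (mem_cent.2 (congrArg Subtype.val (mem_cent.1 a.2)))
    (mem_cent.2 (congrArg Subtype.val (mem_cent.1 b.2)))))⟩⟩

theorem orderOf_conjugate (g x : G) : orderOf (g * x * g⁻¹) = orderOf x :=
  orderOf_injective (MulAut.conj g).toMonoidHom (MulAut.conj g).injective x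

variable [Finite G] {t0 : G}

theorem notMem_N (hA : AbInv G) (h0 : orderOf t0 = 2) {t : G} (ht : orderOf t = 2)
    (htt : t0 * t ≠ t * t0) : t ∉ N t0 := fun h =>
  htt (mem_cent.1 (mem_A_of_two hA h0 h ht)).symm

/-- Involutions are conjugate inside every subgroup containing `t0` and an involution outside `N`. -/
theorem exists_conj_in (hA : AbInv G) (h0 : orderOf t0 = 2) (K : Subgroup G) (h0K : t0 ∈ K) {t : G}
    (ht : orderOf t = 2) (htK : t ∈ K) (htN : t ∉ N t0) {s : G} (hs : orderOf s = 2) (hsK : s ∈ K) :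
    ∃ l ∈ K, l * t0 * l⁻¹ = s := by
  have hin : ∀ x ∈ K, ∀ y ∈ K, closure ({x, y} : Set G) ≤ K := fun x hx y hy => (closure_le K).2 (by
    rintro z (rfl | rfl) <;> assumption)
  by_cases hsN : s ∈ N t0
  · obtain ⟨g, hg, hg'⟩ := exists_conj_outside hA h0 h0 (t0_mem t0) ht htN
    obtain ⟨k, hk, hk'⟩ := exists_conj_outside hA h0 hs (mem_A_of_two hA h0 hsN hs) ht htN
    refine ⟨k⁻¹ * g, mul_mem (inv_mem (hin s hsK t htK hk)) (hin t0 h0K t htK hg), ?_⟩
    rw [← hg'] at hk'
    calc k⁻¹ * g * t0 * (k⁻¹ * g)⁻¹ = k⁻¹ * (g * t0 * g⁻¹) * k := by group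
      _ = s := by rw [← hk']; group
  · obtain ⟨g, hg, hg'⟩ := exists_conj_outside hA h0 h0 (t0_mem t0) hs hsN
    exact ⟨g, hin t0 h0K s hsK hg, hg'⟩

/-- If `C(a) ⊄ N` for `a ∈ A`, then `N ≤ C(a)`. -/
theorem normalizer_le_cent (hA : AbInv G) (h0 : orderOf t0 = 2) {a : G} (ha : a ∈ A t0)
    (hC : ¬ centralizer ({a} : Set G) ≤ N t0) : N t0 ≤ centralizer ({a} : Set G) := by
  obtain ⟨g, hga, hgN⟩ := SetLike.not_le_iff_exists.1 hC
  have hAC : A t0 ≤ centralizer ({a} : Set G) := fun x hx => mem_cent.2 (hA.comm h0 hx ha)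
  have ht : orderOf (g * t0 * g⁻¹) = 2 := by rw [orderOf_conjugate, h0]
  have htN : g * t0 * g⁻¹ ∉ N t0 := fun h =>
    hgN (mem_N hA h0 h0 (t0_mem t0) (mem_A_of_two hA h0 h ht))
  intro n hn
  obtain ⟨l, hl, hl'⟩ := exists_conj_in hA h0 _ (hAC (t0_mem t0)) ht
    (mul_mem (mul_mem hga (hAC (t0_mem t0))) (inv_mem hga)) htN (s := n * t0 * n⁻¹)
    (by rw [orderOf_conjugate, h0]) (hAC ((mem_normalizer_iff.1 hn t0).1 (t0_mem t0)))
  have : l⁻¹ * n ∈ A t0 := mem_cent.2 (by
    calc l⁻¹ * n * t0 = l⁻¹ * (n * t0 * n⁻¹) * n := by group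
      _ = l⁻¹ * (l * t0 * l⁻¹) * n := by rw [hl']
      _ = t0 * (l⁻¹ * n) := by group)
  simpa using mul_mem hl (hAC this)

/-- The centre has odd order. -/
theorem odd_center (hA : AbInv G) (h0 : orderOf t0 = 2) (hN : N t0 ≠ ⊤) :
    ¬ 2 ∣ Nat.card (center G) := by
  intro h
  haveI : Fact (Nat.Prime 2) := ⟨Nat.prime_two⟩
  obtain ⟨z, hz⟩ := exists_prime_orderOf_dvd_card' 2 h
  rw [← orderOf_coe] at hz
  obtain ⟨t, ht, htN⟩ := exists_outside hA h0 hN
  refine htN (A_le_N t0 ?_)
  show t ∈ centralizer ({t0} : Set G)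
  rw [← cent_eq hA hz h0 (mem_center_iff.1 z.2 t0).symm]
  exact mem_cent.2 (mem_center_iff.1 z.2 t)

omit [Finite G] in
/-- In `PSL(2, 2^f)`, the centraliser of an involution has exponent two. -/
theorem psl_sq_eq_one {F : Type*} [Field F] [CharP F 2]
    {x u : Matrix.ProjectiveSpecialLinearGroup (Fin 2) F} (hu : u ≠ 1) (hu2 : u * u = 1)
    (hxu : x * u = u * x) : x * x = 1 := by
  obtain ⟨e⟩ := CfsgLib.Recog.AffineTwo.psl_equiv_sl F
  apply e.injective
  rw [map_mul, map_one]
  set M := (e u).1 with hM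
  set X := (e x).1 with hX
  have hM2 : M * M = 1 := by
    have := congrArg (fun y : Matrix.SpecialLinearGroup (Fin 2) F => y.1) (congrArg e hu2)
    simpa using this
  have hXM : X * M = M * X := by
    have := congrArg (fun y : Matrix.SpecialLinearGroup (Fin 2) F => y.1) (congrArg e hxu)
    simpa using this
  have hdM : M 0 0 * M 1 1 - M 0 1 * M 1 0 = 1 := by
    rw [← Matrix.det_fin_two]; exact (e u).2
  have hdX : X 0 0 * X 1 1 - X 0 1 * X 1 0 = 1 := by
    rw [← Matrix.det_fin_two]; exact (e x).2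
  have h00 := congrFun (congrFun hM2 0) 0
  have h11 := congrFun (congrFun hM2 1) 1
  have c00 := congrFun (congrFun hXM 0) 0
  have c01 := congrFun (congrFun hXM 0) 1
  have c10 := congrFun (congrFun hXM 1) 0
  simp only [Matrix.mul_apply, Fin.sum_univ_two, Matrix.one_apply_eq] at h00 h11 c00 c01 c10
  have two : (2 : F) = 0 := CharTwo.two_eq_zero
  have hMd : M 1 1 = M 0 0 := by
    have : (M 0 0 - M 1 1) ^ 2 = 0 := by linear_combination h00 + h11 - 2 * hdM + (-2 * M 0 1 * M 1 0) * two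
    have := (pow_eq_zero_iff two_ne_zero).1 this
    linear_combination -this
  rw [hMd] at hdM c01 c10
  have hb : M 0 1 ≠ 0 ∨ M 1 0 ≠ 0 := by
    by_contra hcon
    push Not at hcon
    apply hu
    apply e.injective
    rw [map_one]
    have ha : M 0 0 = 1 := by
      have : (M 0 0 + 1) ^ 2 = 0 := by
        linear_combination hdM + M 1 0 * hcon.1 + (M 0 0 + 1) * two
      linear_combination (pow_eq_zero_iff two_ne_zero).1 this - two
    refine Subtype.ext (Matrix.ext fun i j => ?_)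
    fin_cases i <;> fin_cases j <;> simp [← hM, hcon.1, hcon.2, ha, hMd]
  have hXd : X 1 1 = X 0 0 := by
    rcases hb with h | h
    · exact (mul_left_cancel₀ h (by linear_combination c01)).symm
    · exact mul_left_cancel₀ h (by linear_combination c10)
  rw [hXd] at hdX
  refine Subtype.ext (Matrix.ext fun i j => ?_)
  show (X * X) i j = (1 : Matrix (Fin 2) (Fin 2) F) i j
  fin_cases i <;> fin_cases j <;> simp [Matrix.mul_apply, Fin.sum_univ_two, hXd]
  · linear_combination hdX + (X 0 1 * X 1 0) * two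
  · linear_combination (X 0 0 * X 0 1) * two
  · linear_combination (X 0 0 * X 1 0) * two
  · linear_combination hdX + (X 0 1 * X 1 0) * two

omit [Finite G] in
/-- Subgroups of odd order of `PSL(2, 2^f)` are cyclic of order at most `q + 1`. -/
theorem psl_odd_subgroup {F : Type} [Field F] [Fintype F] [CharP F 2]
    (H : Subgroup (Matrix.ProjectiveSpecialLinearGroup (Fin 2) F)) (hH : ¬ 2 ∣ Nat.card H) :
    IsCyclic H ∧ Nat.card H ≤ Fintype.card F + 1 := by
  haveI : Fact (Nat.Prime 2) := ⟨Nat.prime_two⟩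
  have h2 := Fintype.one_lt_card (α := F)
  rcases CfsgLib.Classical.Dickson.subgroup_cases 2 (q := Fintype.card F) rfl H with
    ⟨hc, -, hd⟩ | ⟨hd, -⟩ | ⟨n, -, -, -, ⟨e⟩⟩ | ⟨⟨e⟩⟩ | ⟨⟨e⟩⟩ | ⟨⟨e⟩⟩ | ⟨a, m, h3, -, ha, ⟨hc, -⟩ | ⟨hp, -⟩⟩
  · refine ⟨hc, ?_⟩
    have hev : Fintype.card F % 2 = 0 := FiniteField.even_card_iff_char_two.1 (ringChar.eq F 2)
    have hg : Nat.gcd 2 (Fintype.card F - 1) = 1 :=
      (Nat.Prime.coprime_iff_not_dvd Nat.prime_two).2 (by omega)
    rw [hg, Nat.div_one, Nat.div_one] at hd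
    rcases hd with hd | hd
    · exact Nat.le_of_dvd (by omega) hd
    · exact (Nat.le_of_dvd (by omega) hd).trans (by omega)
  · exact absurd hd hH
  · exact absurd ⟨n, by rw [Nat.card_congr e.toEquiv, DihedralGroup.nat_card]⟩ hH
  · exact absurd ⟨6, by rw [Nat.card_congr e.toEquiv, nat_card_alternatingGroup, Nat.card_fin]; rfl⟩ hH
  · exact absurd ⟨12, by rw [Nat.card_congr e.toEquiv, Nat.card_perm, Nat.card_fin]; rfl⟩ hH
  · exact absurd ⟨30, by rw [Nat.card_congr e.toEquiv, nat_card_alternatingGroup, Nat.card_fin]; rfl⟩ hH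
  · exact absurd (by rw [hc]; exact dvd_mul_of_dvd_left (dvd_pow_self 2 ha) _) hH
  · exact absurd rfl hp

omit [Finite G] in
/-- `PSL(2, F)` in characteristic two has at least `2(q - 1)` involutions. -/
theorem psl_many_involutions (F : Type) [Field F] [Fintype F] [CharP F 2] :
    2 * (Fintype.card F - 1) ≤
      Nat.card {x : Matrix.ProjectiveSpecialLinearGroup (Fin 2) F // orderOf x = 2} := by
  classical
  obtain ⟨e⟩ := CfsgLib.Recog.AffineTwo.psl_equiv_sl F
  have two : (2 : F) = 0 := CharTwo.two_eq_zero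
  let up : F → Matrix.SpecialLinearGroup (Fin 2) F := fun b =>
    ⟨!![1, b; 0, 1], by simp [Matrix.det_fin_two_of]⟩
  let lo : F → Matrix.SpecialLinearGroup (Fin 2) F := fun b =>
    ⟨!![1, 0; b, 1], by simp [Matrix.det_fin_two_of]⟩
  have hup : ∀ b : F, up b * up b = 1 := fun b => Subtype.ext (by
    show (!![1, b; 0, 1] : Matrix (Fin 2) (Fin 2) F) * !![1, b; 0, 1] = 1
    ext i j
    fin_cases i <;> fin_cases j <;> simp

    linear_combination b * two)
  have hlo : ∀ b : F, lo b * lo b = 1 := fun b => Subtype.ext (by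
    show (!![1, 0; b, 1] : Matrix (Fin 2) (Fin 2) F) * !![1, 0; b, 1] = 1
    ext i j
    fin_cases i <;> fin_cases j <;> simp

    linear_combination b * two)
  have ord : ∀ y : Matrix.SpecialLinearGroup (Fin 2) F, y * y = 1 → y ≠ 1 → orderOf (e.symm y) = 2 :=
    fun y h1 h2 => orderOf_eq_prime (by rw [pow_two, ← map_mul, h1, map_one])
      (fun h => h2 (e.symm.injective (h.trans (map_one _).symm)))
  let f : {b : F // b ≠ 0} ⊕ {b : F // b ≠ 0} →
      {x : Matrix.ProjectiveSpecialLinearGroup (Fin 2) F // orderOf x = 2} :=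
    Sum.elim (fun b => ⟨e.symm (up b.1), ord _ (hup _) fun h => b.2 (by
        simpa [up] using congrArg (fun y : Matrix.SpecialLinearGroup (Fin 2) F => y.1 0 1) h)⟩)
      (fun b => ⟨e.symm (lo b.1), ord _ (hlo _) fun h => b.2 (by
        simpa [lo] using congrArg (fun y : Matrix.SpecialLinearGroup (Fin 2) F => y.1 1 0) h)⟩)
  have hf : Function.Injective f := by
    refine Function.Injective.sumElim (fun b c h => ?_) (fun b c h => ?_) fun b c h => ?_ <;>
      have h' := congrArg (fun y : Matrix.SpecialLinearGroup (Fin 2) F => y.1)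
        (e.symm.injective (congrArg Subtype.val h))
    · exact Subtype.ext (by simpa [up] using congrFun (congrFun h' 0) 1)
    · exact Subtype.ext (by simpa [lo] using congrFun (congrFun h' 1) 0)
    · exact b.2 (by simpa [up, lo] using congrFun (congrFun h' 0) 1)
  refine le_trans (le_of_eq ?_) (Nat.card_le_card_of_injective f hf)
  rw [Nat.card_sum, Nat.card_eq_fintype_card, Fintype.card_subtype_compl, Fintype.card_subtype_eq]
  omega

/-- An element `z ∈ A` whose centraliser is not inside `N` and is `Good` and `QuotPSL` is central. -/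
theorem centralizer_eq_top (hA : AbInv G) (h0 : orderOf t0 = 2) {z : G} (hz : z ∈ A t0)
    (hzC : ¬ centralizer ({z} : Set G) ≤ N t0) (hQ : QuotPSL (centralizer ({z} : Set G))) :
    centralizer ({z} : Set G) = ⊤ := by
  classical
  set L := centralizer ({z} : Set G) with hL
  obtain ⟨F, iF, iF', hF2, hF4, π, hπs, hπk⟩ := hQ
  haveI := hF2
  by_contra htop
  have hAL : A t0 ≤ L := fun x hx => mem_cent.2 (hA.comm h0 hx hz)
  have hNL : N t0 ≤ L := normalizer_le_cent hA h0 hz hzC
  obtain ⟨g, hgL, hgN⟩ := SetLike.not_le_iff_exists.1 hzC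
  have ht : orderOf (g * t0 * g⁻¹) = 2 := by rw [orderOf_conjugate, h0]
  have htN : g * t0 * g⁻¹ ∉ N t0 := fun h =>
    hgN (mem_N hA h0 h0 (t0_mem t0) (mem_A_of_two hA h0 h ht))
  have htL : g * t0 * g⁻¹ ∈ L := mul_mem (mul_mem hgL (hAL (t0_mem t0))) (inv_mem hgL)
  have hNtop : N t0 ≠ ⊤ := fun e => htN (e ▸ mem_top _)
  have hconj : ∀ s : G, orderOf s = 2 → s ∈ L → ∃ l ∈ L, l * t0 * l⁻¹ = s := fun s hs hsL =>
    exists_conj_in hA h0 L (hAL (t0_mem t0)) ht htL htN hs hsL
  -- the centre of `L` has odd order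
  have hoddZ : ∀ x : L, x ∈ center L → orderOf x ≠ 2 := by
    intro x hx hx2
    rw [← orderOf_coe] at hx2
    have hc : ∀ y ∈ L, (x : G) * y = y * x := fun y hy =>
      (congrArg Subtype.val (mem_center_iff.1 hx ⟨y, hy⟩)).symm
    refine htN (A_le_N t0 ?_)
    show g * t0 * g⁻¹ ∈ centralizer ({t0} : Set G)
    rw [← cent_eq hA hx2 h0 (hc t0 (hAL (t0_mem t0)))]
    exact mem_cent.2 (hc _ htL).symm
  have hodd : ¬ 2 ∣ Nat.card (center L) := fun h => by
    haveI : Fact (Nat.Prime 2) := ⟨Nat.prime_two⟩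
    obtain ⟨x, hx⟩ := exists_prime_orderOf_dvd_card' 2 h
    exact hoddZ x x.2 (by rwa [orderOf_coe])
  obtain ⟨m, hm⟩ : ∃ m, Nat.card (center L) = 2 * m + 1 :=
    ⟨_, (Nat.div_add_mod _ 2).symm.trans (by rw [Nat.two_dvd_ne_zero.1 hodd])⟩
  -- involutions of the quotient lift
  have hsq2 : ∀ y : Matrix.ProjectiveSpecialLinearGroup (Fin 2) F, orderOf y = 2 → y ^ 2 = 1 :=
    fun y h => by have := pow_orderOf_eq_one y; rwa [h] at this
  have hlift : ∀ y, orderOf y = 2 → ∃ x : L, orderOf x = 2 ∧ π x = y := by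
    intro y hy
    obtain ⟨x, rfl⟩ := hπs y
    have hx2 : x ^ 2 ∈ center L := by
      rw [← hπk, MonoidHom.mem_ker, map_pow, hsq2 _ hy]
    have h1 : π (x ^ (2 * m + 1)) = π x := by
      rw [map_pow, pow_succ, pow_mul, hsq2 _ hy, one_pow, one_mul]
    refine ⟨x ^ (2 * m + 1), orderOf_eq_prime ?_ ?_, h1⟩
    · rw [← pow_mul, mul_comm, pow_mul]
      have := congrArg Subtype.val (pow_card_eq_one' (x := (⟨x ^ 2, hx2⟩ : center L)))
      rwa [hm, coe_pow, OneMemClass.coe_one] at this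
    · intro e
      rw [e, map_one] at h1
      rw [← h1, orderOf_one] at hy
      omega
  have hcountL : Nat.card {y : Matrix.ProjectiveSpecialLinearGroup (Fin 2) F // orderOf y = 2} ≤
      (A t0).relIndex L := by
    rw [Subgroup.relIndex, Subgroup.index]
    have hsel : ∀ y : {y : Matrix.ProjectiveSpecialLinearGroup (Fin 2) F // orderOf y = 2},
        ∃ l : L, ∀ c : L, (c : G) ∈ A t0 →
          π (l * c * ⟨t0, hAL (t0_mem t0)⟩ * (l * c)⁻¹) = y.1 := by
      intro y
      obtain ⟨x, hx, hxy⟩ := hlift y.1 y.2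
      rw [← orderOf_coe] at hx
      obtain ⟨l, hl, hl'⟩ := hconj x hx x.2
      refine ⟨⟨l, hl⟩, fun c hc => ?_⟩
      rw [← hxy]
      refine congrArg π (Subtype.ext ?_)
      simp only [coe_mul, coe_inv]
      rw [← hl']
      calc l * (c : G) * t0 * (l * c)⁻¹ = l * ((c : G) * t0) * (c : G)⁻¹ * l⁻¹ := by group
        _ = l * t0 * l⁻¹ := by rw [mem_cent.1 hc]; group
    choose l hl using hsel
    refine Nat.card_le_card_of_injective
      (fun y => ((l y : L) : L ⧸ (A t0).subgroupOf L)) fun y y' e => Subtype.ext ?_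
    have hc := mem_subgroupOf.1 (QuotientGroup.eq.1 e)
    have h1 := hl y ((l y)⁻¹ * l y') hc
    have h2 := hl y' 1 (one_mem _)
    rw [mul_inv_cancel_left] at h1
    rw [mul_one] at h2
    exact h1.symm.trans h2
  -- a coset of `L` outside `L`
  obtain ⟨j, hj, hjL⟩ : ∃ j, orderOf j = 2 ∧ j ∉ L := by
    obtain ⟨y, hy⟩ : ∃ y, y ∉ L := by
      by_contra hc; push Not at hc; exact htop ((eq_top_iff' L).2 hc)
    obtain ⟨j, ⟨hj, hyj⟩, -⟩ := existsUnique_involution hA h0 hNtop (fun h => hy (hNL h))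
    refine ⟨j, hj, fun hjL => hy ?_⟩
    have := mul_mem hjL (inv_mem (hAL hyj))
    simpa using this
  let H : Subgroup L := (L.comap (MulAut.conj j).toMonoidHom).comap L.subtype
  have hmemH : ∀ x : L, x ∈ H ↔ j * (x : G) * j⁻¹ ∈ L := fun x => Iff.rfl
  -- the image of `H` has odd order
  have hHodd : ¬ 2 ∣ Nat.card (H.map π) := by
    intro h
    haveI : Fact (Nat.Prime 2) := ⟨Nat.prime_two⟩
    obtain ⟨y, hy⟩ := exists_prime_orderOf_dvd_card' 2 h
    obtain ⟨x, hxH, hxy⟩ := Subgroup.mem_map.1 y.2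
    have hy' : orderOf (y : Matrix.ProjectiveSpecialLinearGroup (Fin 2) F) = 2 := by rwa [orderOf_coe]
    have hx2 : x ^ 2 ∈ center L := by
      rw [← hπk, MonoidHom.mem_ker, map_pow, hxy, hsq2 _ hy']
    -- an involution `s` in `H`
    set s : L := x ^ (2 * m + 1) with hs
    have hsH : s ∈ H := pow_mem hxH _
    have hπs' : π s = (y : Matrix.ProjectiveSpecialLinearGroup (Fin 2) F) := by
      rw [hs, map_pow, hxy, pow_succ, pow_mul, hsq2 _ hy', one_pow, one_mul]
    have hy1 : (y : Matrix.ProjectiveSpecialLinearGroup (Fin 2) F) ≠ 1 := fun e => by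
      rw [e, orderOf_one] at hy'; omega
    have hs2 : orderOf (s : G) = 2 := by
      rw [orderOf_coe]
      refine orderOf_eq_prime ?_ fun e => hy1 (by rw [← hπs', e, map_one])
      rw [hs, ← pow_mul, mul_comm, pow_mul]
      have := congrArg Subtype.val (pow_card_eq_one' (x := (⟨x ^ 2, hx2⟩ : center L)))
      rwa [hm, coe_pow, OneMemClass.coe_one] at this
    set z' := j * z * j⁻¹ with hz'
    have hzs : z ∈ centralizer ({(s : G)} : Set G) := mem_cent.2 (mem_cent.1 s.2).symm
    have hjj : j⁻¹ = j := inv_eq_self hj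
    have hz's : z' ∈ centralizer ({(s : G)} : Set G) := mem_cent.2 (by
      have h1 : j * (s : G) * j⁻¹ * z = z * (j * (s : G) * j⁻¹) := mem_cent.1 ((hmemH s).1 hsH)
      rw [hz', hjj] at *
      calc j * z * j * (s : G) = j * (z * (j * (s : G) * j)) * j := by
            simp only [mul_assoc, mul_self_eq_one hj, mul_one]
        _ = j * (j * (s : G) * j * z) * j := by rw [h1]
        _ = (s : G) * (j * z * j) := by
            simp only [← mul_assoc, mul_self_eq_one hj, one_mul])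
    have hz'L : z' ∈ L := mem_cent.2 (hA.comm hs2 hz's hzs)
    have hzodd : ¬ 2 ∣ orderOf z := fun h => hzC (by
      have hu := exists_pow_two h
      have hcu := cent_eq hA hu h0 (mem_cent.1 (pow_mem hz (orderOf z / 2)))
      exact fun x hx => A_le_N t0 (show x ∈ centralizer ({t0} : Set G) from hcu ▸
        mem_cent.2 ((show Commute x z from mem_cent.1 hx).pow_right (orderOf z / 2)).eq))
    have hπz' : π ⟨z', hz'L⟩ = 1 := by
      have hsq : π ⟨z', hz'L⟩ * π ⟨z', hz'L⟩ = 1 := by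
        refine psl_sq_eq_one (u := π s) (by rwa [hπs']) ?_ ?_
        · rw [hπs', ← pow_two, hsq2 _ hy']
        · rw [← map_mul, ← map_mul]; exact congrArg π (Subtype.ext (mem_cent.1 hz's))
      have hd : orderOf (π ⟨z', hz'L⟩) ∣ orderOf z := by
        refine (orderOf_map_dvd π _).trans (dvd_of_eq ?_)
        rw [← orderOf_coe]
        exact orderOf_conjugate j z
      have h2 : orderOf (π ⟨z', hz'L⟩) ∣ 2 := orderOf_dvd_of_pow_eq_one (by rw [pow_two, hsq])
      exact orderOf_eq_one_iff.1 (Nat.eq_one_of_dvd_coprimes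
        ((Nat.Prime.coprime_iff_not_dvd Nat.prime_two).2 hzodd) h2 hd)
    have hz'c : (⟨z', hz'L⟩ : L) ∈ center L := hπk ▸ MonoidHom.mem_ker.2 hπz'
    -- so `j` normalises `L`
    have hjt : j * t0 * j⁻¹ ∈ L := mem_cent.2 (by
      have e : t0 * z' = z' * t0 :=
        congrArg Subtype.val (mem_center_iff.1 hz'c ⟨t0, hAL (t0_mem t0)⟩)
      rw [hz'] at e
      calc j * t0 * j⁻¹ * z = j * (t0 * (j * z * j⁻¹)) * j⁻¹ := by
            simp only [hjj, mul_assoc, mul_self_eq_one hj, mul_one]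
        _ = j * (j * z * j⁻¹ * t0) * j⁻¹ := by rw [e]
        _ = z * (j * t0 * j⁻¹) := by
            simp only [hjj, ← mul_assoc, mul_self_eq_one hj, one_mul])
    obtain ⟨l, hl, hl'⟩ := hconj _ (by rw [orderOf_conjugate, h0]) hjt
    have hlj : l⁻¹ * j ∈ A t0 := mem_cent.2 (by
      calc l⁻¹ * j * t0 = l⁻¹ * (j * t0 * j⁻¹) * j := by group
        _ = l⁻¹ * (l * t0 * l⁻¹) * j := by rw [hl']
        _ = t0 * (l⁻¹ * j) := by group)
    exact hjL (by simpa using mul_mem hl (hAL hlj))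
  -- the involutions of `j L` inject into the image of `H`
  have hcoset : (A t0).relIndex L ≤ Nat.card (H.map π) := by
    rw [Subgroup.relIndex, Subgroup.index]
    have hjq : ∀ l : L, j * (l : G) ∉ N t0 := fun l h => hjL (by
      simpa using mul_mem (hNL h) (inv_mem l.2))
    choose s hs hsu using fun l : L => existsUnique_involution hA h0 hNtop (hjq l)
    have hxL : ∀ l : L, j * s l ∈ L := fun l => by
      have := mul_mem l.2 (hAL (hs l).2)
      rwa [mul_inv_rev, ← mul_assoc, ← mul_assoc, mul_inv_cancel, one_mul, inv_eq_self hj] at this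
    have hinv : ∀ l : L, j * (j * s l) * j⁻¹ = (j * s l)⁻¹ := fun l => by
      rw [mul_inv_rev, inv_eq_self hj, inv_eq_self (hs l).1, ← mul_assoc j j, mul_self_eq_one hj, one_mul]
    have hxH : ∀ l : L, (⟨j * s l, hxL l⟩ : L) ∈ H := fun l =>
      (hmemH _).2 (by rw [hinv l]; exact inv_mem (hxL l))
    refine Nat.card_le_card_of_injective
      (fun q : L ⧸ (A t0).subgroupOf L => (⟨π ⟨j * s q.out, hxL q.out⟩, Subgroup.mem_map_of_mem π (hxH q.out)⟩ : H.map π))
      fun q q' e => ?_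
    have e' : π ⟨j * s q.out, hxL q.out⟩ = π ⟨j * s q'.out, hxL q'.out⟩ := congrArg Subtype.val e
    set x := j * s q.out with hxdef
    set x' := j * s q'.out with hx'def
    have hw : (⟨x, hxL q.out⟩ : L)⁻¹ * ⟨x', hxL q'.out⟩ ∈ center L := by
      rw [← hπk, MonoidHom.mem_ker, map_mul, map_inv, e', inv_mul_cancel]
    set w := x⁻¹ * x' with hwdef
    have hwA : w ∈ A t0 := mem_cent.2
      (congrArg Subtype.val (mem_center_iff.1 hw ⟨t0, hAL (t0_mem t0)⟩)).symm
    have hwx : x * w = w * x := congrArg Subtype.val (mem_center_iff.1 hw ⟨x, hxL q.out⟩)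
    have hw1 : w = 1 := by
      refine eq_one_of_inverted hA h0 hNtop hj (fun h => hjL (hNL h)) hwA ?_
      calc j * w * j⁻¹ = (j * x * j⁻¹)⁻¹ * (j * x' * j⁻¹) := by rw [hwdef]; group
        _ = x * x'⁻¹ := by rw [hxdef, hx'def, hinv, hinv, inv_inv]
        _ = x * (x * w)⁻¹ := by rw [hwdef, mul_inv_cancel_left]
        _ = x * (w * x)⁻¹ := by rw [hwx]
        _ = w⁻¹ := by group
    have hss : s q.out = s q'.out := mul_left_cancel (inv_mul_eq_one.1 hw1)
    rw [← q.out_eq', ← q'.out_eq', QuotientGroup.eq, mem_subgroupOf, coe_mul, coe_inv]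
    have := mul_mem (hs q.out).2 (inv_mem (hs q'.out).2)
    rw [hss] at this
    simpa [mul_assoc] using this
  have h1 := (psl_odd_subgroup (H.map π) hHodd).2
  have h2 := psl_many_involutions F
  omega

end CfsgLib.PLocal.CAGroup
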