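import Mathlib
import Cfsg.Agent.Lib.PLocal.CAGroup.Spread

/-!
# The structure of groups with abelian involution centralisers

Owner: helper10. A `Good` group modulo its centre is `PSL(2, 2^f)`.
-/

set_option autoImplicit false

universe u

namespace CfsgLib.PLocal.CAGroup

open Subgroup

variable {G : Type u} [Group G] [Finite G]

/-- Induction hypothesis: the proper centralisers of `G` that are `Good` are `QuotPSL`. -/
def SubQuot (G : Type u) [Group G] : Prop :=
  ∀ K : Subgroup G, K ≠ ⊤ → Good K → QuotPSL K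

variable {t0 s t : G}

/-- An element of `A` with centraliser outside `N` is central. -/
theorem cent_eq_top (hA : AbInv G) (hsub : SubQuot G) (h0 : orderOf t0 = 2) (hs : orderOf s = 2)
    (hsA : s ∈ A t0) (hne : s ≠ t0) {a : G} (ha : a ∈ A t0)
    (hC : ¬ centralizer ({a} : Set G) ≤ N t0) : centralizer ({a} : Set G) = ⊤ := by
  by_contra htop
  refine htop (centralizer_eq_top hA h0 ha hC (hsub _ htop ?_))
  obtain ⟨g, hga, hgN⟩ := SetLike.not_le_iff_exists.1 hC
  have hAC : A t0 ≤ centralizer ({a} : Set G) := fun x hx => mem_cent.2 (hA.comm h0 hx ha)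
  have ht : orderOf (g * t0 * g⁻¹) = 2 := by rw [orderOf_conjugate, h0]
  refine ⟨hA.subgroup _, ⟨t0, hAC (t0_mem t0)⟩, ⟨s, hAC hsA⟩,
    ⟨g * t0 * g⁻¹, mul_mem (mul_mem hga (hAC (t0_mem t0))) (inv_mem hga)⟩,
    by rwa [← orderOf_coe], by rwa [← orderOf_coe], by rwa [← orderOf_coe],
    fun e => hne (congrArg Subtype.val e), Subtype.ext (mem_cent.1 hsA).symm, fun e => ?_⟩
  have e' : t0 * (g * t0 * g⁻¹) = g * t0 * g⁻¹ * t0 := congrArg Subtype.val e
  exact hgN (mem_N hA h0 h0 (t0_mem t0) (mem_cent.2 e'.symm))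

/-- Without centre, the centraliser of a non-identity element of any `C(j)` lies in `N(C(j))`. -/
theorem cent_le_N (hA : AbInv G) (hsub : SubQuot G) (hZ : center G = ⊥) (h0 : orderOf t0 = 2)
    (hs : orderOf s = 2) (hsA : s ∈ A t0) (hne : s ≠ t0) (hN : N t0 ≠ ⊤) {j a : G}
    (hj : orderOf j = 2) (ha : a ∈ A j) (ha1 : a ≠ 1) : centralizer ({a} : Set G) ≤ N j := by
  by_contra hC
  obtain ⟨g, hg⟩ := exists_conj hA h0 hN hj
  have hsj : g * s * g⁻¹ ∈ A j := by rw [← hg]; exact (conj_mem_cent g).2 hsA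
  have hnej : g * s * g⁻¹ ≠ j := fun e => hne (by
    rw [← hg] at e; exact mul_left_cancel (mul_right_cancel e))
  have htop := cent_eq_top hA hsub hj (by rw [orderOf_conjugate, hs]) hsj hnej ha hC
  have hmem : a ∈ center G := mem_center_iff.2 fun x =>
    mem_cent.1 (htop ▸ mem_top x : x ∈ centralizer ({a} : Set G))
  rw [hZ, mem_bot] at hmem
  exact ha1 hmem

/-- A `Good` group without centre satisfies the hypotheses of `Setup`. -/
theorem setup_of_center_eq_bot (hA : AbInv G) (hsub : SubQuot G) (hZ : center G = ⊥)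
    (h0 : orderOf t0 = 2) (hs : orderOf s = 2) (hsA : s ∈ A t0) (hne : s ≠ t0)
    (ht : orderOf t = 2) (htN : t ∉ N t0) : Setup t0 t := by
  have hN : N t0 ≠ ⊤ := fun e => htN (e ▸ mem_top t)
  have h3 : 2 ≤ (A t0).relIndex (N t0) := by
    rw [← card_involutions_N hA h0 hN]
    by_contra hlt
    have h1 : Nat.card {x : G // orderOf x = 2 ∧ x ∈ N t0} ≤ 1 := by omega
    haveI := Finite.card_le_one_iff_subsingleton.1 h1
    exact hne (congrArg Subtype.val (Subsingleton.elim
      (⟨s, hs, A_le_N t0 hsA⟩ : {x : G // orderOf x = 2 ∧ x ∈ N t0}) ⟨t0, h0, A_le_N t0 (t0_mem t0)⟩))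
  have hfree : ∀ {j a : G}, orderOf j = 2 → a ∈ A j → a ≠ 1 → centralizer ({a} : Set G) ≤ N j :=
    fun hj ha ha1 => cent_le_N hA hsub hZ h0 hs hsA hne hN hj ha ha1
  -- `u` in `N(C(j))` inverted by `j` satisfies `u⁴ = 1`
  have hfour : ∀ {j u : G}, orderOf j = 2 → u ∈ N j → j * u * j⁻¹ = u⁻¹ → u ^ 4 = 1 := by
    intro j u hj hu hju
    have hju' : j * u⁻¹ * j⁻¹ = u := by
      rw [show j * u⁻¹ * j⁻¹ = (j * u * j⁻¹)⁻¹ by group, hju, inv_inv]
    have h1 : u * u ∈ A j := by
      have e : j * (u * j⁻¹ * u⁻¹) = (u * u)⁻¹ := by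
        calc j * (u * j⁻¹ * u⁻¹) = j * u * j⁻¹ * u⁻¹ := by group
          _ = (u * u)⁻¹ := by rw [hju]; group
      have := mul_mem (t0_mem j) ((mem_normalizer_iff.1 hu _).1 (inv_mem (t0_mem j)))
      rw [e] at this
      exact inv_mem_iff.1 this
    have h2 : j * (u * u) * j⁻¹ = (u * u)⁻¹ := by
      rw [show j * (u * u) * j⁻¹ = (j * u * j⁻¹) * (j * u * j⁻¹) by group, hju, mul_inv_rev]
    rw [← mem_cent.1 h1, mul_inv_cancel_right] at h2
    rw [show u ^ 4 = (u * u) * (u * u) by simp [pow_succ, mul_assoc]]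
    nth_rw 1 [h2]
    exact inv_mul_cancel _
  have hdA : ∀ j : G, orderOf j = 2 → j ∉ N t0 → ∀ a ∈ A t0, a ∈ D t0 j → a = 1 := by
    intro j hj hjN a ha haD
    obtain ⟨haN, hia⟩ := mem_D.1 haD
    by_contra ha1
    -- `a` has odd order
    have hodd : ¬ 2 ∣ orderOf a := by
      intro h
      have hu := exists_pow_two h
      set u := a ^ (orderOf a / 2)
      have huA : u ∈ A t0 := pow_mem ha _
      have huD : u ∈ D t0 j := pow_mem haD _
      exact hjN (mem_N hA h0 hu huA (mem_A_of_two hA h0 (mem_D.1 huD).2 (by rw [orderOf_conjugate, hu])))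
    set b := j * a * j⁻¹ with hb
    have hjb : j * b * j⁻¹ = a := by
      simp only [hb, inv_eq_self hj]
      calc j * (j * a * j) * j = (j * j) * a * (j * j) := by group
        _ = a := by rw [mul_self_eq_one hj, one_mul, mul_one]
    -- `a` and `b` commute
    have hcA : b * a * b⁻¹ * a⁻¹ ∈ A t0 :=
      mul_mem ((mem_normalizer_iff.1 hia a).1 ha) (inv_mem ha)
    have hc1 : b * a * b⁻¹ * a⁻¹ = 1 := by
      refine eq_one_of_inverted hA h0 hN hj hjN hcA ?_
      calc j * (b * a * b⁻¹ * a⁻¹) * j⁻¹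
          = (j * b * j⁻¹) * (j * a * j⁻¹) * (j * b * j⁻¹)⁻¹ * (j * a * j⁻¹)⁻¹ := by group
        _ = _ := by rw [hjb, ← hb]; group
    have hcomm : b * a = a * b := by
      calc b * a = (b * a * b⁻¹ * a⁻¹) * (a * b) := by group
        _ = a * b := by rw [hc1, one_mul]
    have heA : a * b ∈ A j := mem_cent.2 (by
      have : j * (a * b) * j⁻¹ = a * b := by
        rw [show j * (a * b) * j⁻¹ = (j * a * j⁻¹) * (j * b * j⁻¹) by group, hjb, ← hb, hcomm]
      rw [mul_inv_eq_iff_eq_mul] at this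
      exact this.symm)
    by_cases he : a * b = 1
    · exact ha1 (eq_one_of_inverted hA h0 hN hj hjN ha (eq_inv_of_mul_eq_one_right he))
    have hu : a * b⁻¹ ∈ N j := hfree hj heA he (mem_cent.2 (by
      have hc : Commute a b := hcomm.symm
      exact ((((Commute.refl a).mul_right hc).mul_left
        ((hc.symm.mul_right (Commute.refl b)).inv_left)).eq)))
    have h4 := hfour hj hu (by
      rw [show j * (a * b⁻¹) * j⁻¹ = (j * a * j⁻¹) * (j * b * j⁻¹)⁻¹ by group, hjb, ← hb]
      group)
    have hc : Commute a b⁻¹ := (show Commute a b from hcomm.symm).inv_right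
    rw [hc.mul_pow, inv_pow, mul_inv_eq_one] at h4
    have hb4 : b ^ 4 = j * a ^ 4 * j⁻¹ := by rw [hb, conj_pow]
    have ha4 : a ^ 4 = 1 := by
      by_contra h
      refine hjN (hfree h0 (pow_mem ha 4) h (mem_cent.2 ?_))
      have := h4.trans hb4
      rw [eq_mul_inv_iff_mul_eq] at this
      exact this.symm
    have hd : orderOf a ∣ 4 := orderOf_dvd_of_pow_eq_one ha4
    exact ha1 (orderOf_eq_one_iff.1 (Nat.eq_one_of_dvd_coprimes
      (Nat.Coprime.pow_left 2 ((Nat.Prime.coprime_iff_not_dvd Nat.prime_two).2 hodd)) hd dvd_rfl))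
  refine ⟨hA, h0, hN, ht, htN, h3, hdA, fun j hj hjN d hd hd1 hjd b hbd hbj => ?_⟩
  by_contra hb1
  have hbA : b ∈ A j := mem_cent.2 (by rw [mul_inv_eq_iff_eq_mul] at hbj; exact hbj.symm)
  have hdN : d ∈ N j := hfree hj hbA hb1 (mem_cent.2 hbd.symm)
  have h4 := hfour hj hdN hjd
  -- `d` is then trivial
  have hkill : ∀ x ∈ D t0 j, x ^ 2 = 1 → x = 1 := by
    intro x hx hx2
    by_contra hx1
    exact hx1 (hdA j hj hjN x (mem_A_of_two hA h0 (mem_D.1 hx).1 (orderOf_eq_prime hx2 hx1)) hx)
  exact hd1 (hkill d hd (hkill _ (pow_mem hd 2) (by rw [← pow_mul]; exact h4)))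

/-- `G/Z(G)` is `Good`. -/
theorem good_quotient (hA : AbInv G) (h0 : orderOf t0 = 2) (hs : orderOf s = 2) (hsA : s ∈ A t0)
    (hne : s ≠ t0) (ht : orderOf t = 2) (htN : t ∉ N t0) : Good (G ⧸ center G) := by
  have hN : N t0 ≠ ⊤ := fun e => htN (e ▸ mem_top t)
  obtain ⟨m, hm⟩ : ∃ m, Nat.card (center G) = 2 * m + 1 :=
    ⟨_, (Nat.div_add_mod _ 2).symm.trans (by rw [Nat.two_dvd_ne_zero.1 (odd_center hA h0 hN)])⟩
  set mk := QuotientGroup.mk' (center G) with hmk
  have hnc : ∀ x : G, orderOf x = 2 → x ∉ center G := fun x hx hxc =>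
    htN (A_le_N t0 (by
      show t ∈ centralizer ({t0} : Set G)
      rw [← cent_eq hA hx h0 (mem_center_iff.1 hxc t0).symm]
      exact mem_cent.2 (mem_center_iff.1 hxc t)))
  have hord : ∀ x : G, orderOf x = 2 → orderOf (mk x) = 2 := fun x hx =>
    orderOf_eq_prime (by rw [← map_pow, ← hx, pow_orderOf_eq_one, map_one])
      (fun e => hnc x hx ((QuotientGroup.eq_one_iff x).1 e))
  -- a commutator lying in the centre with an involution is trivial
  have hfix : ∀ x g : G, orderOf x = 2 → mk (g * x) = mk (x * g) → g * x = x * g := by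
    intro x g hx e
    have hz : (x * g)⁻¹ * (g * x) ∈ center G := QuotientGroup.eq.1 e.symm
    set z := (x * g)⁻¹ * (g * x) with hzdef
    have hzg : g * x = x * g * z := by rw [hzdef, mul_inv_cancel_left]
    have hconj : g * x * g⁻¹ = x * z := by
      rw [hzg, mul_assoc x g z, mem_center_iff.1 hz g, ← mul_assoc, mul_inv_cancel_right]
    have hz2 : z ^ 2 = 1 := by
      have h2 : (x * z) ^ 2 = 1 := by
        rw [← hconj, conj_pow, pow_two, mul_self_eq_one hx, mul_one, mul_inv_cancel]
      rwa [(show Commute x z from mem_center_iff.1 hz x).mul_pow, pow_two x, mul_self_eq_one hx,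
        one_mul] at h2
    have hz1 : z = 1 := by
      have := congrArg Subtype.val (pow_card_eq_one' (x := (⟨z, hz⟩ : center G)))
      rwa [coe_pow, OneMemClass.coe_one, hm, pow_succ, pow_mul, hz2, one_pow, one_mul] at this
    rw [hzg, hz1, mul_one]
  refine ⟨fun x hx => ⟨⟨fun a b => Subtype.ext ?_⟩⟩, mk t0, mk s, mk t, hord _ h0, hord _ hs, hord _ ht,
    fun e => ?_, by rw [← map_mul, ← map_mul, (mem_cent.1 hsA).symm], fun e => ?_⟩
  · obtain ⟨g, rfl⟩ := QuotientGroup.mk'_surjective (center G) x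
    obtain ⟨a, ha⟩ := a
    obtain ⟨b, hb⟩ := b
    obtain ⟨a', rfl⟩ := QuotientGroup.mk'_surjective (center G) a
    obtain ⟨b', rfl⟩ := QuotientGroup.mk'_surjective (center G) b
    rw [mem_cent] at ha hb
    -- replace `g` by an involution
    have hg2 : g ^ 2 ∈ center G := (QuotientGroup.eq_one_iff _).1
      (show mk (g ^ 2) = 1 by rw [map_pow, ← hx, pow_orderOf_eq_one])
    set u := g ^ (2 * m + 1) with hu
    have hux : mk u = mk g := by
      rw [hu, map_pow, pow_succ, pow_mul, ← map_pow,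
        show mk (g ^ 2) = 1 from (QuotientGroup.eq_one_iff _).2 hg2, one_pow, one_mul]
    have hu2 : orderOf u = 2 := by
      refine orderOf_eq_prime ?_ fun e => ?_
      · rw [hu, ← pow_mul, mul_comm, pow_mul]
        have := congrArg Subtype.val (pow_card_eq_one' (x := (⟨g ^ 2, hg2⟩ : center G)))
        rwa [hm, coe_pow, OneMemClass.coe_one] at this
      · rw [e, map_one] at hux
        rw [show QuotientGroup.mk' (center G) g = mk g from rfl, ← hux, orderOf_one] at hx
        omega
    have hca : a' ∈ centralizer ({u} : Set G) := mem_cent.2 (hfix u a' hu2 (by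
      rw [map_mul, map_mul, hux]; exact ha))
    have hcb : b' ∈ centralizer ({u} : Set G) := mem_cent.2 (hfix u b' hu2 (by
      rw [map_mul, map_mul, hux]; exact hb))
    show mk a' * mk b' = mk b' * mk a'
    rw [← map_mul, ← map_mul, hA.comm hu2 hca hcb]
  · have hz : t0⁻¹ * s ∈ center G := QuotientGroup.eq.1 e.symm
    have hts : orderOf (t0⁻¹ * s) = 2 := by
      refine orderOf_eq_prime ?_ fun h => hne (inv_mul_eq_one.1 h).symm
      rw [inv_eq_self h0, pow_two, show t0 * s * (t0 * s) = t0 * (s * t0) * s by group,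
        mem_cent.1 hsA, ← mul_assoc, mul_self_eq_one h0, one_mul, mul_self_eq_one hs]
    exact hnc _ hts hz
  · have := hfix t0 t h0 (by rw [map_mul, map_mul]; exact e.symm)
    exact htN (A_le_N t0 (mem_cent.2 this))

/-- A `Good` group modulo its centre is `PSL(2, 2^f)`. -/
theorem quotPSL_of_good : ∀ (n : ℕ) (G : Type u) [Group G] [Finite G], Nat.card G = n → Good G →
    QuotPSL G := by
  intro n
  induction n using Nat.strong_induction_on with
  | _ n ih =>
    intro G _ _ hn hgood
    obtain ⟨hA, t0, s, t, h0, hs, ht, hne, hcs, hnt⟩ := hgood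
    have hsub : SubQuot G := fun K hK hK' => ih (Nat.card K) (hn ▸ by
      refine lt_of_le_of_ne K.card_le_card_group fun e => hK (eq_top_of_card_eq K e)) K rfl hK'
    have hsA : s ∈ A t0 := mem_cent.2 hcs.symm
    have htN : t ∉ N t0 := notMem_N hA h0 ht hnt
    by_cases hZ : center G = ⊥
    · obtain ⟨F, i1, i2, f, hf, hF, ⟨e⟩⟩ :=
        (setup_of_center_eq_bot hA hsub hZ h0 hs hsA hne ht htN).iso_psl
      refine ⟨F, i1, i2, ringChar.of_eq ?_, ?_, e.toMonoidHom, e.surjective, ?_⟩
      · rw [FiniteField.even_card_iff_char_two, hF, Nat.pow_mod, Nat.mod_self, zero_pow (by omega),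
          Nat.zero_mod]
      · rw [hF]; exact le_trans (by norm_num) (Nat.pow_le_pow_right two_pos hf)
      · rw [hZ]; exact (MonoidHom.ker_eq_bot_iff _).2 e.injective
    · have hlt : Nat.card (G ⧸ center G) < n := by
        rw [← hn, ← (center G).card_mul_index, Subgroup.index]
        refine lt_mul_of_one_lt_left Nat.card_pos ?_
        exact (one_lt_card_iff_ne_bot _).2 hZ
      obtain ⟨F, i1, i2, hF2, hF4, π, hπs, hπk⟩ :=
        ih _ hlt (G ⧸ center G) rfl (good_quotient hA h0 hs hsA hne ht htN)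
      refine ⟨F, i1, i2, hF2, hF4, π.comp (QuotientGroup.mk' (center G)),
        hπs.comp (QuotientGroup.mk'_surjective _), le_antisymm (fun g hg => ?_) (fun g hg => ?_)⟩
      · have hgc : ∀ x : G, (g : G ⧸ center G) * (x : G ⧸ center G) = x * g := fun x => by
          have hm : (g : G ⧸ center G) ∈ center (G ⧸ center G) := hπk ▸ hg
          exact (mem_center_iff.1 hm x).symm
        have hN : N t0 ≠ ⊤ := fun e => htN (e ▸ mem_top t)
        obtain ⟨m, hm⟩ : ∃ m, Nat.card (center G) = 2 * m + 1 :=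
          ⟨_, (Nat.div_add_mod _ 2).symm.trans (by rw [Nat.two_dvd_ne_zero.1 (odd_center hA h0 hN)])⟩
        have hcomm : ∀ x : G, orderOf x = 2 → g * x = x * g := by
          intro x hx
          have hz : (x * g)⁻¹ * (g * x) ∈ center G :=
            QuotientGroup.eq.1 (by simpa using (hgc x).symm)
          set z := (x * g)⁻¹ * (g * x) with hzdef
          have hzg : g * x = x * g * z := by rw [hzdef, mul_inv_cancel_left]
          have hconj : g * x * g⁻¹ = x * z := by
            rw [hzg, mul_assoc x g z, mem_center_iff.1 hz g, ← mul_assoc, mul_inv_cancel_right]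
          have hz2 : z ^ 2 = 1 := by
            have h2 : (x * z) ^ 2 = 1 := by
              rw [← hconj, conj_pow, pow_two, mul_self_eq_one hx, mul_one, mul_inv_cancel]
            rwa [(show Commute x z from mem_center_iff.1 hz x).mul_pow, pow_two x, mul_self_eq_one hx,
              one_mul] at h2
          have hz1 : z = 1 := by
            have := congrArg Subtype.val (pow_card_eq_one' (x := (⟨z, hz⟩ : center G)))
            rwa [coe_pow, OneMemClass.coe_one, hm, pow_succ, pow_mul, hz2, one_pow, one_mul] at this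
          rw [hzg, hz1, mul_one]
        have hgA : g ∈ A t0 := mem_cent.2 (hcomm t0 h0)
        have htop := cent_eq_top hA hsub h0 hs hsA hne hgA (fun hle =>
          htN (hle (mem_cent.2 (hcomm t ht).symm)))
        exact mem_center_iff.2 fun x => mem_cent.1 (htop ▸ mem_top x : x ∈ centralizer ({g} : Set G))
      · rw [MonoidHom.mem_ker, MonoidHom.comp_apply, QuotientGroup.mk'_apply,
          (QuotientGroup.eq_one_iff g).2 hg, map_one]

end CfsgLib.PLocal.CAGroup
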