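import Mathlib
import Cfsg.Agent.Lib.PLocal.CAGroup.General
import Cfsg.Agent.Lib.Transfer.Abelian
import Cfsg.Agent.Lib.Classical.PSLTwoSimple
import Cfsg.Agent.Lib.Core.UniqueOrderP

/-!
# Groups with abelian involution centralisers

Owner: helper10. Sylow `2`-subgroups cyclic, or normal, or `G ≅ SL(2, 2^f) × A` with `A` abelian of
odd order.
-/

set_option autoImplicit false

universe u

namespace CfsgLib.PLocal.CAGroup

open Subgroup
open scoped commutatorElement

variable {G : Type u} [Group G] [Finite G]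

/-- A `QuotPSL` group with centre of odd order splits over its centre. -/
theorem split_center {F : Type} [Field F] [Fintype F] [CharP F 2] (hF : 4 ≤ Fintype.card F)
    (π : G →* Matrix.ProjectiveSpecialLinearGroup (Fin 2) F) (hs : Function.Surjective π)
    (hk : π.ker = center G) (hodd : ¬ 2 ∣ Nat.card (center G)) :
    Nonempty (G ≃* Matrix.ProjectiveSpecialLinearGroup (Fin 2) F × center G) := by
  have hcap : commutator G ⊓ center G = ⊥ := by
    by_contra hne
    obtain ⟨p, hp, hpd⟩ := Nat.exists_prime_and_dvd (mt card_eq_one.1 hne)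
    haveI : Fact p.Prime := ⟨hp⟩
    obtain ⟨⟨z, hz⟩, hzp⟩ := exists_prime_orderOf_dvd_card' p hpd
    rw [orderOf_mk] at hzp
    have hz1 : z ≠ 1 := fun e => by rw [e, orderOf_one] at hzp; exact hp.one_lt.ne hzp
    have hp2 : p ≠ 2 := by
      rintro rfl
      exact hodd (hzp ▸ Subgroup.orderOf_dvd_natCard _ hz.2)
    obtain ⟨P, hP⟩ := IsPGroup.exists_le_sylow
      (IsPGroup.of_card (p := p) (n := 1) (G := zpowers z) (by rw [Nat.card_zpowers, hzp, pow_one]))
    have hzP : z ∈ (P : Subgroup G) := hP (mem_zpowers z)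
    obtain ⟨k, hk'⟩ := IsPGroup.iff_card.1 (P.2.map π)
    have hPodd : ¬ 2 ∣ Nat.card ((P : Subgroup G).map π) := by
      rw [hk']
      exact fun h => hp2 ((Nat.prime_dvd_prime_iff_eq Nat.prime_two hp).1
        (Nat.prime_two.dvd_of_dvd_pow h)).symm
    haveI := (psl_odd_subgroup _ hPodd).1
    haveI : IsMulCommutative (P : Subgroup G) := by
      refine MonoidHom.isMulCommutative_of_isCyclic_of_ker_le_center
        (π.subgroupMap (P : Subgroup G)) fun x hx => mem_center_iff.2 fun y => Subtype.ext ?_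
      have hx' : (x : G) ∈ center G := hk ▸ (congrArg Subtype.val hx : π x = 1)
      exact mem_center_iff.1 hx' y
    have h := CfsgLib.Transfer.inf_commutator_inf_center_eq_bot (P : Subgroup G)
      (Sylow.card_coprime_index P)
    exact hz1 ((Subgroup.eq_bot_iff_forall _).1 h z ⟨⟨hzP, hz.1⟩, hz.2⟩)
  haveI := CfsgLib.Classical.isSimpleGroup_PSL_two hF
  have hperf : commutator (Matrix.ProjectiveSpecialLinearGroup (Fin 2) F) = ⊤ := by
    rcases (inferInstance : (commutator (Matrix.ProjectiveSpecialLinearGroup (Fin 2) F)).Normal).eq_bot_or_eq_top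
      with e | e
    · exfalso
      obtain ⟨e'⟩ := CfsgLib.Recog.AffineTwo.psl_equiv_sl F
      have two : (2 : F) = 0 := CharTwo.two_eq_zero
      have hcomm : ∀ x y : Matrix.ProjectiveSpecialLinearGroup (Fin 2) F, x * y = y * x := fun x y => by
        have : ⁅x, y⁆ ∈ commutator (Matrix.ProjectiveSpecialLinearGroup (Fin 2) F) :=
          commutator_mem_commutator (mem_top x) (mem_top y)
        rw [e, mem_bot] at this
        exact commutatorElement_eq_one_iff_mul_comm.1 this
      let up : Matrix.SpecialLinearGroup (Fin 2) F := ⟨!![1, 1; 0, 1], by simp [Matrix.det_fin_two_of]⟩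
      let lo : Matrix.SpecialLinearGroup (Fin 2) F := ⟨!![1, 0; 1, 1], by simp [Matrix.det_fin_two_of]⟩
      have h : up * lo = lo * up := e'.symm.injective (by rw [map_mul, map_mul, hcomm])
      have h' : (((!![1, 1; 0, 1] : Matrix (Fin 2) (Fin 2) F) * (!![1, 0; 1, 1] : Matrix (Fin 2) (Fin 2) F) :
          Matrix (Fin 2) (Fin 2) F)) 0 0 =
          (((!![1, 0; 1, 1] : Matrix (Fin 2) (Fin 2) F) * (!![1, 1; 0, 1] : Matrix (Fin 2) (Fin 2) F) :
          Matrix (Fin 2) (Fin 2) F)) 0 0 :=
        congrArg (fun g : Matrix.SpecialLinearGroup (Fin 2) F => g.1 0 0) h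
      simp at h'
    · exact e
  have hmap : (commutator G).map π = ⊤ := by
    rw [_root_.commutator_def, map_commutator, map_top_of_surjective π hs, ← _root_.commutator_def, hperf]
  let f : commutator G →* Matrix.ProjectiveSpecialLinearGroup (Fin 2) F := π.comp (commutator G).subtype
  have hfinj : Function.Injective f := by
    rw [injective_iff_map_eq_one]
    intro x hx
    exact Subtype.ext ((Subgroup.eq_bot_iff_forall _).1 hcap x ⟨x.2, hk ▸ hx⟩)
  have hfsurj : Function.Surjective f := fun y => by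
    obtain ⟨x, hx, hxy⟩ := mem_map.1 (hmap ▸ mem_top y)
    exact ⟨⟨x, hx⟩, hxy⟩
  let F' : commutator G × center G →* G :=
    { toFun := fun p => (p.1 : G) * p.2
      map_one' := by simp
      map_mul' := fun p q => by
        simp only [Prod.fst_mul, Prod.snd_mul, coe_mul]
        calc (p.1 : G) * q.1 * ((p.2 : G) * q.2) = p.1 * ((q.1 : G) * p.2) * q.2 := by group
          _ = p.1 * ((p.2 : G) * q.1) * q.2 := by rw [mem_center_iff.1 p.2.2]
          _ = (p.1 : G) * p.2 * (q.1 * q.2) := by group }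
  have hinj : Function.Injective F' := by
    rw [injective_iff_map_eq_one]
    rintro ⟨x, y⟩ h
    have h' : (x : G) * y = 1 := h
    have hx : (x : G) = (y : G)⁻¹ := eq_inv_of_mul_eq_one_left h'
    have hx1 : (x : G) = 1 :=
      (Subgroup.eq_bot_iff_forall _).1 hcap x ⟨x.2, show (x : G) ∈ center G by rw [hx]; exact inv_mem y.2⟩
    rw [hx1, one_mul] at h'
    exact Prod.ext (Subtype.ext hx1) (Subtype.ext h')
  have hsurj : Function.Surjective F' := fun g => by
    obtain ⟨x, hx⟩ := hfsurj (π g)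
    have hxg : (x : G)⁻¹ * g ∈ center G := by
      rw [← hk, MonoidHom.mem_ker, map_mul, map_inv, ← hx]
      exact inv_mul_cancel _
    exact ⟨⟨x, ⟨(x : G)⁻¹ * g, hxg⟩⟩, mul_inv_cancel_left (x : G) g⟩
  exact ⟨(MulEquiv.ofBijective F' ⟨hinj, hsurj⟩).symm.trans
    (MulEquiv.prodCongr (MulEquiv.ofBijective f ⟨hfinj, hfsurj⟩) (MulEquiv.refl _))⟩

/-- Groups of even order with abelian involution centralisers. -/
theorem abInv_cases (hA : AbInv G) (heven : Even (Nat.card G)) :
    (∀ P : Sylow 2 G, IsCyclic ↥P) ∨ (∀ P : Sylow 2 G, (P : Subgroup G).Normal) ∨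
    (∃ (F : Type) (_ : Field F) (_ : Fintype F) (A : Type) (_ : CommGroup A) (_ : Finite A),
      CharP F 2 ∧ Odd (Nat.card A) ∧ Nonempty (G ≃* Matrix.SpecialLinearGroup (Fin 2) F × A)) := by
  classical
  haveI : Fact (Nat.Prime 2) := ⟨Nat.prime_two⟩
  obtain ⟨t0, h0⟩ := exists_prime_orderOf_dvd_card' 2 (even_iff_two_dvd.1 heven)
  obtain ⟨S, hS⟩ := exists_sylow_le hA h0
  haveI hScomm : IsMulCommutative (S : Subgroup G) :=
    ⟨⟨fun x y => Subtype.ext (hA.comm h0 (hS x.2) (hS y.2))⟩⟩
  by_cases hNtop : N t0 = ⊤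
  · right; left
    haveI : (A t0).Normal := normalizer_eq_top_iff.1 hNtop
    have hSn : (S : Subgroup G).Normal := ⟨fun x hx g => by
      have hga : g * x * g⁻¹ ∈ A t0 := Subgroup.Normal.conj_mem inferInstance x (hS hx) g
      have hp : IsPGroup 2 ↥(zpowers (g * x * g⁻¹)) := by
        obtain ⟨k, hk⟩ := IsPGroup.iff_orderOf.mp S.2 ⟨x, hx⟩
        exact IsPGroup.of_card (n := k) (by rw [Nat.card_zpowers, orderOf_conjugate, ← hk, orderOf_mk])
      have hnorm : zpowers (g * x * g⁻¹) ≤ normalizer ((S : Subgroup G) : Set G) := by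
        rw [zpowers_le]
        refine mem_normalizer_iff.2 fun y => ?_
        constructor <;> intro hy
        · rwa [hA.comm h0 hga (hS hy), mul_inv_cancel_right]
        · have hyA : g * x * g⁻¹ * y * (g * x * g⁻¹)⁻¹ ∈ A t0 := hS hy
          have hyA' : y ∈ A t0 := by
            have := mul_mem (mul_mem (inv_mem hga) hyA) hga
            simpa [mul_assoc] using this
          rwa [hA.comm h0 hga hyA', mul_inv_cancel_right] at hy
      exact (S.3 (IsPGroup.to_sup_of_normal_right' hp S.2 hnorm) le_sup_right).le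
        (le_sup_left (α := Subgroup G) (mem_zpowers _))⟩
    letI := Sylow.unique_of_normal S hSn
    exact fun P => Subsingleton.elim S P ▸ hSn
  by_cases huniq : ∀ s : G, orderOf s = 2 → s ∈ A t0 → s = t0
  · left
    have hSc : IsCyclic (S : Subgroup G) := by
      haveI : IsMulCommutative (⊤ : Subgroup (S : Subgroup G)) :=
        ⟨⟨fun x y => Subtype.ext (hScomm.is_comm.comm (x : (S : Subgroup G)) y)⟩⟩
      have := CfsgLib.Core.UniqueOrderP.isCyclic_of_unique (G := (S : Subgroup G)) S.2 (fun H K hH hK => by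
        have gen : ∀ H : Subgroup (S : Subgroup G), Nat.card H = 2 → ∃ x ∈ H, (x : G) = t0 ∧ H = zpowers x := by
          intro H hH
          obtain ⟨⟨x, hx⟩, hx2⟩ := exists_prime_orderOf_dvd_card' (G := H) 2 (by rw [hH])
          rw [orderOf_mk] at hx2
          refine ⟨x, hx, huniq _ (by rwa [orderOf_coe]) (hS x.2), ?_⟩
          exact (eq_of_le_of_card_ge (zpowers_le.2 hx) (by rw [hH, Nat.card_zpowers, hx2])).symm
        obtain ⟨x, -, hx, rfl⟩ := gen H hH
        obtain ⟨y, -, hy, rfl⟩ := gen K hK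
        rw [show x = y from Subtype.ext (hx.trans hy.symm)]) ⊤
      exact isCyclic_of_surjective _ Subgroup.topEquiv.surjective
    exact fun P => isCyclic_of_surjective _ (S.equiv P).surjective
  right; right
  push Not at huniq
  obtain ⟨s, hs, hsA, hne⟩ := huniq
  obtain ⟨t, ht, htN⟩ := exists_outside hA h0 hNtop
  obtain ⟨F, iF, iF', hF2, hF4, π, hπs, hπk⟩ := quotPSL_of_good _ G rfl
    ⟨hA, t0, s, t, h0, hs, ht, hne, (mem_cent.1 hsA).symm, fun e => htN (A_le_N t0 (mem_cent.2 e.symm))⟩
  haveI := hF2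
  obtain ⟨e⟩ := split_center hF4 π hπs hπk (odd_center hA h0 hNtop)
  obtain ⟨e2⟩ := CfsgLib.Recog.AffineTwo.psl_equiv_sl F
  haveI : IsMulCommutative (center G) := ⟨⟨fun x y => Subtype.ext (mem_center_iff.1 y.2 x)⟩⟩
  letI : CommGroup (center G) := { mul_comm := (inferInstance : IsMulCommutative (center G)).is_comm.comm }
  refine ⟨F, iF, iF', Shrink.{0} (center G), inferInstance, inferInstance, hF2, ?_,
    ⟨e.trans (MulEquiv.prodCongr e2 Shrink.mulEquiv.symm)⟩⟩
  rw [← Nat.card_congr (equivShrink _), ← Nat.not_even_iff_odd, even_iff_two_dvd]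
  exact odd_center hA h0 hNtop

end CfsgLib.PLocal.CAGroup
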